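import Cfsg.Agent.Lib.PGroup.TransInvol.FieldEnd
import Mathlib.RingTheory.LittleWedderburn

/-!
# A commutative group transitive on the non-identity elements of an elementary two-group

It is regular, closed under pointwise products, and a group normalising it and fixing a vector is
cyclic of order dividing the dimension.
-/

set_option autoImplicit false
set_option linter.style.haveILetI false

namespace CfsgLib.SECrit.Pencil

variable {L E : Type*} [Group L] [Group E] [MulDistribMulAction L E]

/-- `C` is commutative and transitive on the non-identity elements. -/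
structure Singer (L E : Type*) [Group L] [Group E] [MulDistribMulAction L E] (C : Subgroup L) : Prop where
  sq : ∀ e : E, e * e = 1
  comm : ∀ a ∈ C, ∀ b ∈ C, a * b = b * a
  trans : ∀ e f : E, e ≠ 1 → f ≠ 1 → ∃ c ∈ C, c • e = f
  faith : ∀ g : L, (∀ e : E, g • e = e) → g = 1

namespace Singer

variable {C : Subgroup L} (h : Singer L E C)
include h

theorem mul_comm' (a b : E) : a * b = b * a := by
  calc a * b = (a * b)⁻¹ := (inv_eq_of_mul_eq_one_left (h.sq _)).symm
    _ = b * a := by rw [mul_inv_rev, inv_eq_of_mul_eq_one_left (h.sq b), inv_eq_of_mul_eq_one_left (h.sq a)]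

theorem smul_ne_one {g : L} {e : E} (he : e ≠ 1) : g • e ≠ 1 := fun e1 =>
  he (by rw [← inv_smul_smul g e, e1, smul_one])

/-- **Regularity.** -/
theorem eq_one_of_fix {c : L} (hc : c ∈ C) {e : E} (he : e ≠ 1) (hce : c • e = e) : c = 1 := by
  refine h.faith c fun f => ?_
  by_cases hf : f = 1
  · rw [hf, smul_one]
  obtain ⟨b, hb, rfl⟩ := h.trans e f he hf
  rw [smul_smul, h.comm c hc b hb, mul_smul, hce]

theorem eq_of_smul_eq {a b : L} (ha : a ∈ C) (hb : b ∈ C) {e : E} (he : e ≠ 1) (hab : a • e = b • e) : a = b :=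
  (inv_mul_eq_one.1 (h.eq_one_of_fix (mul_mem (inv_mem hb) ha) he (by rw [mul_smul, hab, inv_smul_smul]))).symm

theorem card_eq {e : E} (he : e ≠ 1) : Nat.card C = Nat.card {f : E // f ≠ 1} :=
  Nat.card_eq_of_bijective (fun c => ⟨(c : L) • e, h.smul_ne_one he⟩)
    ⟨fun a b hab => Subtype.ext (h.eq_of_smul_eq a.2 b.2 he (congrArg Subtype.val hab)),
      fun ⟨f, hf⟩ => by obtain ⟨c, hc, hce⟩ := h.trans e f he hf; exact ⟨⟨c, hc⟩, Subtype.ext hce⟩⟩

/-- **Sums.** -/
theorem exists_mul_smul [Finite E] {a b : L} (ha : a ∈ C) (hb : b ∈ C) {e : E} (he : e ≠ 1) (hne : a • e ≠ b • e) :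
    ∃ c ∈ C, ∀ f : E, (a • f) * (b • f) = c • f := by
  have h1 : (a • e) * (b • e) ≠ 1 := fun e1 => hne (by
    rw [eq_inv_of_mul_eq_one_left e1, inv_eq_of_mul_eq_one_left (h.sq _)])
  obtain ⟨c, hc, hce⟩ := h.trans e _ he h1
  refine ⟨c, hc, fun f => ?_⟩
  by_cases hf : f = 1
  · rw [hf, smul_one, smul_one, smul_one, one_mul]
  obtain ⟨g, hg, rfl⟩ := h.trans e f he hf
  rw [smul_smul, smul_smul, smul_smul, h.comm a ha g hg, h.comm b hb g hg, h.comm c hc g hg, mul_smul, mul_smul,
    mul_smul, hce, smul_mul']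

/-- **The stabilizer of a vector in the normalizer is a group of field automorphisms.** -/
theorem fix_normalizer [Finite L] [Finite E] {β : ℕ} (hβ : Nat.card E = 2 ^ β) (D : Subgroup L) {e : E}
    (he : e ≠ 1) (hD : ∀ g ∈ D, g • e = e) (hDn : ∀ g ∈ D, ∀ c ∈ C, g * c * g⁻¹ ∈ C) :
    Nat.card D ∣ β ∧ IsCyclic D ∧ IsCyclic C := by
  classical
  letI : CommGroup E := { ‹Group E› with mul_comm := h.mul_comm' }
  let ψ : L →* AddMonoid.End (Additive E) :=
    { toFun := fun g => MonoidHom.toAdditive (MulDistribMulAction.toMonoidHom E g)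
      map_one' := AddMonoidHom.ext fun v => congrArg Additive.ofMul (one_smul L v.toMul)
      map_mul' := fun g k => AddMonoidHom.ext fun v => congrArg Additive.ofMul (mul_smul g k v.toMul) }
  have hψ : ∀ (g : L) (v : E), ψ g (Additive.ofMul v) = Additive.ofMul (g • v) := fun g v => rfl
  let R : Subring (AddMonoid.End (Additive E)) := Subring.closure (ψ '' (C : Set L))
  have hgen : ∀ r ∈ R, ∀ c ∈ C, Commute r (ψ c) := by
    intro r hr c hc
    induction hr using Subring.closure_induction with
    | mem r hr => obtain ⟨b, hb, rfl⟩ := hr; exact (show Commute b c from h.comm b hb c hc).map ψ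
    | zero => exact Commute.zero_left _
    | one => exact Commute.one_left _
    | add r s _ _ hr hs => exact hr.add_left hs
    | neg r _ hr => exact hr.neg_left
    | mul r s _ _ hr hs => exact hr.mul_left hs
  have hcomm : ∀ r ∈ R, ∀ s ∈ R, Commute r s := by
    intro r hr s hs
    induction hs using Subring.closure_induction with
    | mem s hs => obtain ⟨b, hb, rfl⟩ := hs; exact hgen r hr b hb
    | zero => exact Commute.zero_right _
    | one => exact Commute.one_right _
    | add s t _ _ ht hu => exact ht.add_right hu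
    | neg s _ ht => exact ht.neg_right
    | mul s t _ _ ht hu => exact ht.mul_right hu
  have hinj : ∀ r ∈ R, r (Additive.ofMul e) = 0 → r = 0 := by
    intro r hr hre
    refine AddMonoidHom.ext fun v => ?_
    show r v = 0
    by_cases hv : v.toMul = 1
    · rw [show v = 0 from congrArg Additive.ofMul hv, map_zero]
    obtain ⟨c, hc, hcv⟩ := h.trans e _ he hv
    rw [show v = ψ c (Additive.ofMul e) from (congrArg Additive.ofMul hcv).symm]
    show (r * ψ c) (Additive.ofMul e) = 0
    rw [(hgen r hr c hc).eq]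
    show ψ c (r (Additive.ofMul e)) = 0
    rw [hre, map_zero]
  haveI : Nontrivial R := ⟨1, 0, fun e1 => he (by
    have := congrArg (fun r : R => (r : AddMonoid.End (Additive E)) (Additive.ofMul e)) e1
    exact congrArg Additive.toMul this)⟩
  let ev : R → Additive E := fun r => (r : AddMonoid.End (Additive E)) (Additive.ofMul e)
  have hev : Function.Bijective ev := by
    refine ⟨fun r s hrs => Subtype.ext (sub_eq_zero.1 (hinj _ (sub_mem r.2 s.2) ?_)), fun v => ?_⟩
    · show (r : AddMonoid.End (Additive E)) (Additive.ofMul e) - (s : AddMonoid.End (Additive E)) (Additive.ofMul e) = 0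
      exact sub_eq_zero.2 hrs
    · by_cases hv : v.toMul = 1
      · exact ⟨0, (congrArg Additive.ofMul hv).symm⟩
      obtain ⟨c, hc, hcv⟩ := h.trans e _ he hv
      exact ⟨⟨ψ c, Subring.subset_closure ⟨c, hc, rfl⟩⟩, congrArg Additive.ofMul hcv⟩
  haveI : Finite R := Finite.of_injective ev hev.1
  letI : CommRing R := { (inferInstance : Ring R) with mul_comm := fun r s => Subtype.ext (hcomm r r.2 s s.2).eq }
  haveI : NoZeroDivisors R := by
    refine ⟨fun {r s} hrs => ?_⟩
    by_contra hh
    push Not at hh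
    have h1 : (s : AddMonoid.End (Additive E)) (Additive.ofMul e) ≠ 0 := fun e1 =>
      hh.2 (Subtype.ext (hinj _ s.2 e1))
    obtain ⟨c, hc, hcs⟩ := h.trans e ((s : AddMonoid.End (Additive E)) (Additive.ofMul e)).toMul he
      (fun e1 => h1 (congrArg Additive.ofMul e1))
    refine hh.1 (Subtype.ext (hinj _ r.2 ?_))
    have h2 : ψ c ((r : AddMonoid.End (Additive E)) (Additive.ofMul e)) = 0 := by
      show (ψ c * (r : AddMonoid.End (Additive E))) (Additive.ofMul e) = 0
      rw [← (hgen _ r.2 c hc).eq]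
      show (r : AddMonoid.End (Additive E)) (ψ c (Additive.ofMul e)) = 0
      rw [show ψ c (Additive.ofMul e) = (s : AddMonoid.End (Additive E)) (Additive.ofMul e) from
        congrArg Additive.ofMul hcs]
      exact congrArg (fun t : R => (t : AddMonoid.End (Additive E)) (Additive.ofMul e)) hrs
    have h3 : c • ((r : AddMonoid.End (Additive E)) (Additive.ofMul e)).toMul = 1 := congrArg Additive.toMul h2
    by_contra h4
    exact h.smul_ne_one (fun e1 => h4 (congrArg Additive.ofMul e1)) h3
  haveI : IsDomain R := NoZeroDivisors.to_isDomain R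
  letI : Field R := (Finite.isField_of_domain R).toField
  have hchar : CharP R 2 := CharTwo.of_one_ne_zero_of_two_eq_zero one_ne_zero
    (one_add_one_eq_two.symm.trans (Subtype.ext (AddMonoidHom.ext fun v => congrArg Additive.ofMul (h.sq v.toMul))))
  haveI := hchar
  have hcard : Nat.card R = 2 ^ β := by
    rw [Nat.card_eq_of_bijective ev hev, ← hβ]
    exact Nat.card_congr Additive.toMul
  -- conjugation
  have hσmem : ∀ g ∈ D, ∀ r ∈ R, ψ g * r * ψ g⁻¹ ∈ R := by
    intro g hg r hr
    induction hr using Subring.closure_induction with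
    | mem r hr =>
      obtain ⟨c, hc, rfl⟩ := hr
      exact Subring.subset_closure ⟨g * c * g⁻¹, hDn g hg c hc, by rw [map_mul, map_mul]⟩
    | zero => rw [mul_zero, zero_mul]; exact zero_mem R
    | one => rw [mul_one, ← map_mul, mul_inv_cancel, map_one]; exact one_mem R
    | add r s _ _ hr hs => rw [mul_add, add_mul]; exact add_mem hr hs
    | neg r _ hr =>
      have : ψ g * -r * ψ g⁻¹ = -(ψ g * r * ψ g⁻¹) := AddMonoidHom.ext fun v => map_neg (ψ g) _
      rw [this]
      exact neg_mem hr
    | mul r s _ _ hr hs =>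
      have : ψ g * (r * s) * ψ g⁻¹ = (ψ g * r * ψ g⁻¹) * (ψ g * s * ψ g⁻¹) := by
        have e1 : ψ g⁻¹ * ψ g = 1 := by rw [← map_mul, inv_mul_cancel, map_one]
        calc ψ g * (r * s) * ψ g⁻¹ = ψ g * r * 1 * s * ψ g⁻¹ := by rw [mul_one, mul_assoc (ψ g) r s]
          _ = _ := by rw [← e1]; simp only [mul_assoc]
      rw [this]
      exact mul_mem hr hs
  have e1 : ∀ g : L, ψ g⁻¹ * ψ g = 1 := fun g => by rw [← map_mul, inv_mul_cancel, map_one]
  have e2 : ∀ g : L, ψ g * ψ g⁻¹ = 1 := fun g => by rw [← map_mul, mul_inv_cancel, map_one]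
  let σ : D →* RingAut R :=
    { toFun := fun g =>
        { toFun := fun r => ⟨ψ g * r * ψ (g : L)⁻¹, hσmem g g.2 r r.2⟩
          invFun := fun r => ⟨ψ (g : L)⁻¹ * r * ψ g, by
            have := hσmem _ (inv_mem g.2) r r.2
            rwa [inv_inv] at this⟩
          left_inv := fun r => Subtype.ext (by
            show ψ (g : L)⁻¹ * (ψ g * r * ψ (g : L)⁻¹) * ψ g = r
            calc ψ (g : L)⁻¹ * (ψ g * r * ψ (g : L)⁻¹) * ψ g = (ψ (g : L)⁻¹ * ψ g) * r * (ψ (g : L)⁻¹ * ψ g) := by
                  simp only [mul_assoc]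
              _ = r := by rw [e1, one_mul, mul_one])
          right_inv := fun r => Subtype.ext (by
            show ψ g * (ψ (g : L)⁻¹ * r * ψ g) * ψ (g : L)⁻¹ = r
            calc ψ g * (ψ (g : L)⁻¹ * r * ψ g) * ψ (g : L)⁻¹ = (ψ g * ψ (g : L)⁻¹) * r * (ψ g * ψ (g : L)⁻¹) := by
                  simp only [mul_assoc]
              _ = r := by rw [e2, one_mul, mul_one])
          map_mul' := fun r s => Subtype.ext (by
            show ψ g * (r * s) * ψ (g : L)⁻¹ = ψ g * r * ψ (g : L)⁻¹ * (ψ g * s * ψ (g : L)⁻¹)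
            calc ψ (g : L) * ((r : AddMonoid.End (Additive E)) * s) * ψ (g : L)⁻¹
                = ψ g * r * (ψ (g : L)⁻¹ * ψ g) * s * ψ (g : L)⁻¹ := by rw [e1, mul_one, mul_assoc (ψ (g : L)) r.1 s.1]
              _ = _ := by simp only [mul_assoc])
          map_add' := fun r s => Subtype.ext (by
            show ψ g * (r + s) * ψ (g : L)⁻¹ = ψ g * r * ψ (g : L)⁻¹ + ψ g * s * ψ (g : L)⁻¹
            rw [mul_add, add_mul]) }
      map_one' := RingEquiv.ext fun r => Subtype.ext (by
        show ψ ((1 : D) : L) * r * ψ ((1 : D) : L)⁻¹ = r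
        rw [OneMemClass.coe_one, inv_one, map_one, one_mul, mul_one])
      map_mul' := fun g k => RingEquiv.ext fun r => Subtype.ext (by
        show ψ ((g * k : D) : L) * r * ψ ((g * k : D) : L)⁻¹ = ψ g * (ψ k * r * ψ (k : L)⁻¹) * ψ (g : L)⁻¹
        rw [Subgroup.coe_mul, mul_inv_rev, map_mul, map_mul]
        simp only [mul_assoc]) }
  have hσinj : Function.Injective σ := by
    rw [injective_iff_map_eq_one]
    intro g hg
    refine Subtype.ext (h.faith g fun v => ?_)
    by_cases hv : v = 1
    · rw [hv, smul_one]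
    obtain ⟨c, hc, rfl⟩ := h.trans e v he hv
    have h1 : ψ g * ψ c * ψ (g : L)⁻¹ = ψ c :=
      congrArg Subtype.val (RingEquiv.congr_fun hg ⟨ψ c, Subring.subset_closure ⟨c, hc, rfl⟩⟩)
    have h2 : ((g : L) * c * (g : L)⁻¹) • e = c • e := congrArg Additive.toMul
      (congrArg (fun t : AddMonoid.End (Additive E) => t (Additive.ofMul e))
        (show ψ ((g : L) * c * (g : L)⁻¹) = ψ c by rw [map_mul, map_mul, h1]))
    rw [mul_smul, mul_smul, inv_smul_eq_iff.2 (hD g g.2).symm] at h2
    exact h2
  haveI : Finite (RingAut R) := Finite.of_injective _ (DFunLike.coe_injective (F := R ≃+* R))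
  let ι : C →* R :=
    { toFun := fun c => ⟨ψ c, Subring.subset_closure ⟨c, c.2, rfl⟩⟩
      map_one' := Subtype.ext (by show ψ ((1 : C) : L) = 1; rw [OneMemClass.coe_one, map_one])
      map_mul' := fun a b => Subtype.ext (by show ψ ((a * b : C) : L) = ψ a * ψ b; rw [Subgroup.coe_mul, map_mul]) }
  have hι : Function.Injective ι := fun a b hab => Subtype.ext (h.eq_of_smul_eq a.2 b.2 he
    (congrArg Additive.toMul (congrArg (fun r : R => (r : AddMonoid.End (Additive E)) (Additive.ofMul e)) hab)))
  refine ⟨TransInvol.card_ringEquiv_le hcard ▸ Subgroup.card_dvd_of_injective σ hσinj, ?_,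
    isCyclic_of_injective_ringHom ι hι⟩
  letI := ZMod.algebra R 2
  haveI : IsCyclic (R ≃ₐ[ZMod 2] R) := isCyclic_of_surjective
    (zpowersHom _ (FiniteField.frobeniusAlgEquivOfAlgebraic (ZMod 2) R)) (fun s => by
      obtain ⟨⟨i, -⟩, rfl⟩ := (FiniteField.bijective_frobeniusAlgEquivOfAlgebraic_pow (ZMod 2) R).2 s
      exact ⟨Multiplicative.ofAdd (i : ℤ), by simp⟩)
  let e3 : (R ≃ₐ[ZMod 2] R) →* RingAut R :=
    { toFun := fun s => s.toRingEquiv
      map_one' := rfl
      map_mul' := fun _ _ => rfl }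
  have he3 : Function.Surjective e3 := fun s =>
    ⟨AlgEquiv.ofRingEquiv (f := s) fun r => RingHom.congr_fun
      (Subsingleton.elim ((s : R →+* R).comp (algebraMap (ZMod 2) R)) (algebraMap (ZMod 2) R)) r,
      RingEquiv.ext fun _ => rfl⟩
  haveI : IsCyclic (RingAut R) := isCyclic_of_surjective e3 he3
  exact isCyclic_of_injective σ hσinj

end Singer

end CfsgLib.SECrit.Pencil
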