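import Cfsg.Agent.Lib.Invol.SECriterion.EqType.Pencil.Setting
import Cfsg.Agent.S0675
import Cfsg.Agent.S3559
import Cfsg.Agent.S3972
import Mathlib.GroupTheory.GroupAction.Primitive
import Mathlib.GroupTheory.Solvable

/-!
# A minimal block of the vectors

A minimal block containing `e` is the orbit of `e` under a subgroup `H` over its stabilizer.  Its
stabilizer induces a doubly transitive group on it (the soluble case of prime degree is impossible),
so one less than its size divides the order of the stabilizer of `e`.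
-/

set_option autoImplicit false
set_option linter.style.haveILetI false

namespace CfsgLib.SECrit.Pencil

open MulAction
open scoped commutatorElement

/-- A primitive group with a regular cyclic subgroup is doubly transitive or soluble. -/
theorem two_or_solvable {Ω : Type*} [Finite Ω] (G : Subgroup (Equiv.Perm Ω)) [IsPretransitive G Ω]
    (hprim : IsPreprimitive G Ω) (hn : 2 ≤ Nat.card Ω) (g : G) (hg : ∀ a b : Ω, ∃ i : ℤ, (g ^ i) • a = b)
    (hfree : ∀ (a : Ω) (i : ℤ), (g ^ i) • a = a → g ^ i = 1) :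
    Group.IsSolvable G ∨ IsMultiplyPretransitive G Ω 2 := by
  classical
  letI := Fintype.ofFinite Ω
  have htr : IsPretransitive (Subgroup.zpowers g) Ω := ⟨fun a b => by
    obtain ⟨i, hi⟩ := hg a b
    exact ⟨⟨g ^ i, i, rfl⟩, hi⟩⟩
  obtain ⟨a₀⟩ : Nonempty Ω := (Nat.card_pos_iff.1 (by omega)).1
  have hord : orderOf g = Nat.card Ω := by
    rw [← Nat.card_zpowers]
    refine Nat.card_eq_of_bijective (fun c : Subgroup.zpowers g => (c : G) • a₀) ⟨?_, fun b => ?_⟩
    · rintro ⟨_, i, rfl⟩ ⟨_, j, rfl⟩ hij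
      refine Subtype.ext ?_
      have hij' : (g ^ i) • a₀ = (g ^ j) • a₀ := hij
      have := hfree a₀ (-j + i) (by rw [zpow_add, mul_smul, hij', ← mul_smul, ← zpow_add, neg_add_cancel, zpow_zero, one_smul])
      rw [zpow_add, zpow_neg, inv_mul_eq_one] at this
      exact this.symm
    · obtain ⟨i, hi⟩ := hg a₀ b
      exact ⟨⟨g ^ i, i, rfl⟩, hi⟩
  by_cases hp : (Nat.card Ω).Prime
  · exact Cfsg.Agent.S0675.result (by rwa [← Nat.card_eq_fintype_card]) G
  refine Or.inr ?_
  by_cases hpp : IsPrimePow (Nat.card Ω)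
  · obtain ⟨p, m, hp', hm, hpm⟩ := (isPrimePow_nat_iff _).1 hpp
    have hm2 : 2 ≤ m := by
      by_contra hh
      obtain rfl : m = 1 := by omega
      rw [pow_one] at hpm
      exact hp (hpm ▸ hp')
    by_contra h2
    exact (Cfsg.Agent.S3972.result p m hp' hm2 (by rw [← Nat.card_eq_fintype_card, hpm]) G inferInstance h2 g
      (by rw [hord, hpm])).1 hprim
  · refine (Cfsg.Agent.S3559.result (G := G) (Ω := Ω) inferInstance hn hpp (Subgroup.zpowers g) inferInstance
      ⟨htr, fun a => (Subgroup.eq_bot_iff_forall _).2 ?_⟩).resolve_left fun hh => hh hprim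
    rintro ⟨_, i, rfl⟩ hi
    exact Subtype.ext (hfree a i hi)

namespace Setting

variable {L E X : Type*} [Group L] [Finite L] [Group E] [Finite E] [MulDistribMulAction L E] [MulAction L X]
  [Finite X] {C : Subgroup L} {x₀ : X} {β : ℕ} (h : Setting L E X C x₀ β)
include h

omit [Finite L] [Finite E] [Finite X] in
theorem exists_mul {e : E} (he : e ≠ 1) {H : Subgroup L} (hH : stabilizer L e ≤ H) (g : L) :
    ∃ c ∈ C, ∃ k ∈ H, g = c * k := by
  obtain ⟨c, hc, hce⟩ := h.singer.trans e (g • e) he (h.singer.smul_ne_one he)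
  exact ⟨c, hc, c⁻¹ * g, hH (mem_stabilizer_iff.2 (by rw [mul_smul, ← hce, inv_smul_smul])),
    (mul_inv_cancel_left c g).symm⟩

omit [Finite L] [Finite E] [Finite X] in
/-- The elements of `C` in an overgroup of a stabilizer lie in its core. -/
theorem mem_core {e : E} (he : e ≠ 1) {H : Subgroup L} (hH : stabilizer L e ≤ H) {a : L} (ha : a ∈ C)
    (haH : a ∈ H) : a ∈ H.normalCore := by
  intro g
  obtain ⟨c, hc, k, hk, hgk⟩ := h.exists_mul he hH g⁻¹
  have hg : g = k⁻¹ * c⁻¹ := by rw [← inv_inv g, hgk, mul_inv_rev]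
  rw [hg, show k⁻¹ * c⁻¹ * a * (k⁻¹ * c⁻¹)⁻¹ = k⁻¹ * (c⁻¹ * (a * c)) * k by group, h.singer.comm a ha c hc,
    inv_mul_cancel_left]
  exact mul_mem (mul_mem (inv_mem hk) haH) hk

/-- Counting over an overgroup of a stabilizer. -/
theorem index_mul {e : E} (he : e ≠ 1) {H : Subgroup L} (hH : stabilizer L e ≤ H) :
    H.index * Nat.card (C ⊓ H : Subgroup L) = 2 ^ β - 1 ∧
      Nat.card H = Nat.card (C ⊓ H : Subgroup L) * Nat.card (stabilizer L e) := by
  classical
  have h1 : Nat.card H = Nat.card (C ⊓ H : Subgroup L) * Nat.card (stabilizer L e) := by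
    rw [← Nat.card_prod]
    refine (Nat.card_eq_of_bijective (fun p : (C ⊓ H : Subgroup L) × stabilizer L e =>
      (⟨(p.1 : L) * p.2, mul_mem p.1.2.2 (hH p.2.2)⟩ : H)) ⟨?_, ?_⟩).symm
    · rintro ⟨⟨c, hc⟩, ⟨g, hg⟩⟩ ⟨⟨c', hc'⟩, ⟨g', hg'⟩⟩ hh
      have h2 : c * g = c' * g' := congrArg Subtype.val hh
      obtain rfl : c = c' := h.singer.eq_of_smul_eq hc.1 hc'.1 he (by
        calc c • e = (c * g) • e := by rw [mul_smul, mem_stabilizer_iff.1 hg]
          _ = c' • e := by rw [h2, mul_smul, mem_stabilizer_iff.1 hg'])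
      obtain rfl : g = g' := mul_left_cancel h2
      rfl
    · rintro ⟨g, hg⟩
      obtain ⟨c, hc, hce⟩ := h.singer.trans e (g • e) he (h.singer.smul_ne_one he)
      have hs : c⁻¹ * g ∈ stabilizer L e := mem_stabilizer_iff.2 (by rw [mul_smul, ← hce, inv_smul_smul])
      refine ⟨(⟨c, hc, ?_⟩, ⟨_, hs⟩), Subtype.ext (mul_inv_cancel_left c g)⟩
      have := mul_mem hg (inv_mem (hH hs))
      rwa [mul_inv_rev, inv_inv, mul_inv_cancel_left] at this
  refine ⟨?_, h1⟩
  have h2 : (stabilizer L e).index = 2 ^ β - 1 := by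
    rw [← h.card_ne_one, MulAction.index_stabilizer]
    have : orbit L e = {f : E | f ≠ 1} := by
      ext f
      refine ⟨?_, fun hf => ?_⟩
      · rintro ⟨g, rfl⟩; exact h.singer.smul_ne_one he
      · obtain ⟨c, -, hc⟩ := h.singer.trans e f he hf; exact ⟨c, hc⟩
    rw [this]
    rfl
  have h3 := H.index_mul_card
  rw [← (stabilizer L e).index_mul_card, h2, h1, ← mul_assoc] at h3
  exact Nat.eq_of_mul_eq_mul_right Nat.card_pos h3

/-- **A minimal block.** -/
theorem exists_block {e : E} (he : e ≠ 1) : ∃ H : Subgroup L, stabilizer L e ≤ H ∧ C ⊓ H ≠ ⊥ ∧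
    Nat.card (C ⊓ H : Subgroup L) - 1 ∣ Nat.card (stabilizer L e) := by
  classical
  set St := stabilizer L e with hSt
  obtain ⟨f, hf, hfe⟩ : ∃ f : E, f ≠ 1 ∧ f ≠ e := by
    by_contra hh
    push Not at hh
    haveI : Subsingleton {f : E // f ≠ 1} := ⟨fun a b => Subtype.ext ((hh a.1 a.2).trans (hh b.1 b.2).symm)⟩
    have h1 := Finite.card_le_one_iff_subsingleton.2 (inferInstance : Subsingleton {f : E // f ≠ 1})
    rw [h.card_ne_one] at h1
    have : 2 ^ 2 ≤ 2 ^ β := Nat.pow_le_pow_right (by norm_num) h.two_le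
    omega
  have hSttop : St ≠ ⊤ := fun e1 => by
    obtain ⟨c, hc, hcf⟩ := h.singer.trans e f he hf
    exact hfe (hcf.symm.trans (mem_stabilizer_iff.1 (e1 ▸ Subgroup.mem_top c : c ∈ St)))
  obtain ⟨H, hHlt, hHmin⟩ := (Set.toFinite {H : Subgroup L | St < H}).exists_minimal ⟨⊤, lt_top_iff_ne_top.2 hSttop⟩
  simp only [Set.mem_setOf_eq] at hHlt hHmin
  have hH : St ≤ H := hHlt.le
  -- the block
  set St' := St.subgroupOf H
  obtain ⟨g, hgH, hgS⟩ := SetLike.exists_of_lt hHlt
  have hCH : C ⊓ H ≠ ⊥ := by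
    intro e1
    obtain ⟨c, hc, hce⟩ := h.singer.trans e (g • e) he (h.singer.smul_ne_one he)
    have hs : c⁻¹ * g ∈ St := mem_stabilizer_iff.2 (by rw [mul_smul, ← hce, inv_smul_smul])
    have hcH : c ∈ C ⊓ H := ⟨hc, by
      have := mul_mem hgH (inv_mem (hH hs))
      rwa [mul_inv_rev, inv_inv, mul_inv_cancel_left] at this⟩
    rw [e1, Subgroup.mem_bot] at hcH
    rw [hcH, one_smul] at hce
    exact hgS (mem_stabilizer_iff.2 hce.symm)
  set o : H ⧸ St' := ((1 : H) : H ⧸ St') with ho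
  have hstab : stabilizer H o = St' := stabilizer_quotient St'
  haveI : Nontrivial (H ⧸ St') := by
    refine ⟨⟨((⟨g, hgH⟩ : H) : H ⧸ St'), o, fun e1 => hgS ?_⟩⟩
    have := QuotientGroup.eq.1 e1
    rw [mul_one, inv_mem_iff] at this
    exact this
  have hprimH : IsPreprimitive H (H ⧸ St') := by
    rw [← isCoatom_stabilizer_iff_preprimitive H o, hstab]
    refine ⟨fun e1 => hgS (Subgroup.subgroupOf_eq_top.1 e1 hgH), fun T hT => ?_⟩
    have h1 : St < T.map H.subtype := by
      refine lt_of_le_not_ge (fun s hs => ⟨⟨s, hH hs⟩, hT.le hs, rfl⟩) fun e1 => ?_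
      obtain ⟨t, ht, htS⟩ := SetLike.exists_of_lt hT
      exact htS (e1 ⟨t, ht, rfl⟩)
    have h2 := hHmin h1 (Subgroup.map_subtype_le T)
    refine eq_top_iff.2 fun k _ => ?_
    obtain ⟨t, ht, htk⟩ := h2 k.2
    exact (H.subtype_injective htk) ▸ ht
  let φ := toPermHom H (H ⧸ St')
  haveI : IsPretransitive φ.range (H ⧸ St') := ⟨fun a b => by
    obtain ⟨k, hk⟩ := MulAction.exists_smul_eq H a b
    exact ⟨⟨φ k, k, rfl⟩, hk⟩⟩
  have hprim : IsPreprimitive φ.range (H ⧸ St') := by
    haveI := hprimH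
    exact IsPreprimitive.of_surjective (φ := φ.rangeRestrict) (f := { toFun := id, map_smul' := fun _ _ => rfl })
      Function.surjective_id
  -- a generator of `C ⊓ H`
  haveI := h.cyclic
  haveI : IsCyclic (C ⊓ H : Subgroup L) :=
    isCyclic_of_injective (Subgroup.inclusion (inf_le_left : C ⊓ H ≤ C)) (Subgroup.inclusion_injective _)
  obtain ⟨⟨a, ha, haH⟩, hgen⟩ := IsCyclic.exists_generator (α := (C ⊓ H : Subgroup L))
  have hpow : ∀ i : ℤ, (φ.rangeRestrict ⟨a, haH⟩) ^ i = φ.rangeRestrict (⟨a, haH⟩ ^ i) := fun i =>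
    (map_zpow _ _ _).symm
  have hmk : ∀ k : H, ∃ i : ℤ, ((k : H) : H ⧸ St') = (((⟨a, haH⟩ : H) ^ i : H) : H ⧸ St') := by
    intro k
    obtain ⟨c, hc, hce⟩ := h.singer.trans e ((k : L) • e) he (h.singer.smul_ne_one he)
    have hs : c⁻¹ * (k : L) ∈ St := mem_stabilizer_iff.2 (by rw [mul_smul, ← hce, inv_smul_smul])
    have hcH : c ∈ C ⊓ H := ⟨hc, by
      have := mul_mem k.2 (inv_mem (hH hs))
      rwa [mul_inv_rev, inv_inv, mul_inv_cancel_left] at this⟩
    obtain ⟨i, hi⟩ := Subgroup.mem_zpowers_iff.1 (hgen ⟨c, hcH⟩)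
    have hi' : a ^ i = c := by simpa using congrArg Subtype.val hi
    refine ⟨i, (QuotientGroup.eq.2 ?_).symm⟩
    show ((((⟨a, haH⟩ : H) ^ i)⁻¹ * k : H) : L) ∈ St
    rw [Subgroup.coe_mul, Subgroup.coe_inv, SubgroupClass.coe_zpow, hi']
    exact hs
  have hact : ∀ (a' : H) (b : H), (φ.rangeRestrict a') • ((b : H) : H ⧸ St') = ((a' * b : H) : H ⧸ St') :=
    fun _ _ => rfl
  have hreg : ∀ p q : H ⧸ St', ∃ i : ℤ, ((φ.rangeRestrict ⟨a, haH⟩) ^ i) • p = q := by
    intro p q
    induction p using QuotientGroup.induction_on with | H p => ?_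
    induction q using QuotientGroup.induction_on with | H q => ?_
    obtain ⟨i, hi⟩ := hmk p
    obtain ⟨j, hj⟩ := hmk q
    exact ⟨j - i, by rw [hi, hj, hpow, hact, ← zpow_add, sub_add_cancel]⟩
  have hfree : ∀ (p : H ⧸ St') (i : ℤ), ((φ.rangeRestrict ⟨a, haH⟩) ^ i) • p = p →
      (φ.rangeRestrict ⟨a, haH⟩) ^ i = 1 := by
    intro p i hi
    induction p using QuotientGroup.induction_on with | H p => ?_
    obtain ⟨j, hj⟩ := hmk p
    rw [hj, hpow, hact, ← zpow_add, QuotientGroup.eq] at hi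
    have h1 : ((((⟨a, haH⟩ : H) ^ (i + j))⁻¹ * (⟨a, haH⟩ : H) ^ j : H) : L) ∈ St := hi
    have h2 : a ^ (-i) ∈ St := by
      have e1 : ((((⟨a, haH⟩ : H) ^ (i + j))⁻¹ * (⟨a, haH⟩ : H) ^ j : H) : L) = a ^ (-i) := by
        simp only [Subgroup.coe_mul, Subgroup.coe_inv, SubgroupClass.coe_zpow]
        rw [← zpow_neg, ← zpow_add]; congr 1; ring
      rwa [e1] at h1
    have h3 := h.singer.eq_one_of_fix (Subgroup.zpow_mem C ha _) he (mem_stabilizer_iff.1 h2)
    rw [zpow_neg, inv_eq_one] at h3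
    rw [hpow, show (⟨a, haH⟩ : H) ^ i = 1 from Subtype.ext (by rw [SubgroupClass.coe_zpow]; exact h3), map_one]
  rcases two_or_solvable φ.range hprim (Finite.one_lt_card_iff_nontrivial.2 inferInstance) _ hreg hfree with
    hsol | h2t
  · -- the kernel of the block system is soluble
    exfalso
    set K := H.normalCore with hK
    let ι : K →* φ.range := φ.rangeRestrict.comp (Subgroup.inclusion H.normalCore_le)
    obtain ⟨n, hn⟩ := hsol.solvable
    set D := (derivedSeries K n).map K.subtype with hD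
    haveI : D.Normal := inferInstance
    have hDfix : ∀ k ∈ D, k • e = e := by
      rintro _ ⟨k, hk, rfl⟩
      have h1 : ι k = 1 := by
        have := map_derivedSeries_le_derivedSeries ι n (Subgroup.mem_map_of_mem ι hk)
        rwa [hn, Subgroup.mem_bot] at this
      have h2 : (φ (Subgroup.inclusion H.normalCore_le k)) o = o := by
        rw [show φ (Subgroup.inclusion H.normalCore_le k) = 1 from congrArg Subtype.val h1]; rfl
      have h3 : Subgroup.inclusion H.normalCore_le k ∈ stabilizer H o := h2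
      rw [hstab] at h3
      exact h3
    have hDbot := h.eq_bot_of_fix_vector D he hDfix
    -- all derived terms vanish
    have hall : ∀ m, (derivedSeries K m).map K.subtype = ⊥ → K = ⊥ := by
      intro m
      induction m with
      | zero => intro hm; rwa [derivedSeries_zero, ← MonoidHom.range_eq_map, Subgroup.range_subtype] at hm
      | succ m ih =>
        intro hm
        refine ih (h.eq_bot_of_comm _ ?_)
        rintro _ ⟨a, ha, rfl⟩ _ ⟨b, hb, rfl⟩
        have h1 : K.subtype ⁅a, b⁆ ∈ (derivedSeries K (m + 1)).map K.subtype :=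
          Subgroup.mem_map_of_mem _ (by rw [derivedSeries_succ]; exact Subgroup.commutator_mem_commutator ha hb)
        rw [hm, Subgroup.mem_bot, map_commutatorElement, commutatorElement_eq_one_iff_mul_comm] at h1
        exact h1
    have hKbot : K = ⊥ := hall n hDbot
    refine hCH (eq_bot_iff.2 fun c hc => ?_)
    rw [← hKbot]
    exact h.mem_core he hH hc.1 hc.2
  refine ⟨H, hH, hCH, ?_⟩
  -- `stabilizer e` is transitive on the other points of the block
  let P : Type _ := {p : H ⧸ St' // p ≠ o}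
  have hP : Nat.card P = Nat.card (C ⊓ H : Subgroup L) - 1 := by
    have h1 : Nat.card (H ⧸ St') = Nat.card (C ⊓ H : Subgroup L) := by
      have h2 := (St'.index_mul_card).symm
      rw [(h.index_mul he hH).2, show Nat.card St' = Nat.card St from
        Nat.card_congr (Subgroup.subgroupOfEquivOfLe hH).toEquiv] at h2
      exact (Nat.eq_of_mul_eq_mul_right Nat.card_pos h2).symm
    have h3 := Nat.card_congr (Equiv.optionSubtypeNe o)
    rw [Finite.card_option, h1] at h3
    show Nat.card {p : H ⧸ St' // p ≠ o} = _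
    omega
  rw [← hP]
  have hfixo : ∀ s : St, (⟨(s : L), hH s.2⟩ : H) • o = o := fun s => by
    rw [← mem_stabilizer_iff, hstab]; exact s.2
  letI : MulAction St P :=
    { smul := fun s p => ⟨(⟨(s : L), hH s.2⟩ : H) • p.1, fun e1 => p.2 (smul_left_cancel _ (e1.trans (hfixo s).symm))⟩
      one_smul := fun p => Subtype.ext (one_smul H p.1)
      mul_smul := fun s t p => Subtype.ext (mul_smul (⟨(s : L), hH s.2⟩ : H) (⟨(t : L), hH t.2⟩ : H) p.1) }
  obtain ⟨p₀, hp₀⟩ := _root_.exists_ne o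
  haveI : IsPretransitive St P := ⟨fun p q => by
    obtain ⟨⟨_, k, rfl⟩, hko, hkp⟩ := is_two_pretransitive_iff.1 h2t p.2.symm q.2.symm
    have hk : k ∈ stabilizer H o := hko
    rw [hstab] at hk
    exact ⟨⟨k, hk⟩, Subtype.ext hkp⟩⟩
  rw [← index_stabilizer_of_transitive St (⟨p₀, hp₀⟩ : P)]
  exact Subgroup.index_dvd_card _

end Setting

end CfsgLib.SECrit.Pencil
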