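import Cfsg.Agent.Lib.Invol.SECriterion.EqType.Pencil.Arith
import Cfsg.Agent.Lib.Invol.SECriterion.EqType.Pencil.Blocks

/-!
# A linear group transitive on the pencils exists only in odd dimension

The fixed vectors of a Sylow two-subgroup of the kernel of the minimal blocks meet each block in one
point and form a coset of a subgroup of `C`; these cosets are a second block system, and the two
kernels centralise one another.
-/

set_option autoImplicit false
set_option linter.style.haveILetI false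

namespace CfsgLib.SECrit.Pencil

open MulAction

variable {L : Type*} [Group L]

/-- A Sylow two-subgroup of `K`. -/
def Syl (K S : Subgroup L) : Prop := S ≤ K ∧ Nat.card S = 2 ^ (Nat.card K).factorization 2

theorem exists_syl [Finite L] (K : Subgroup L) : ∃ S, Syl K S := by
  haveI : Fact (Nat.Prime 2) := ⟨Nat.prime_two⟩
  obtain ⟨P⟩ : Nonempty (Sylow 2 K) := inferInstance
  exact ⟨(P : Subgroup K).map K.subtype, Subgroup.map_subtype_le _,
    (Subgroup.card_map_of_injective K.subtype_injective).trans P.card_eq_multiplicity⟩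

/-- A conjugate of a Sylow subgroup of a normal subgroup. -/
theorem Syl.conj [Finite L] {K S : Subgroup L} [hK : K.Normal] (hS : Syl K S) (g : L) :
    Syl K (S.map (MulAut.conj g).toMonoidHom) := by
  refine ⟨?_, by rw [Subgroup.card_map_of_injective (MulAut.conj g).injective]; exact hS.2⟩
  rintro _ ⟨s, hs, rfl⟩
  exact hK.conj_mem s (hS.1 hs) g

theorem Syl.exists_conj [Finite L] {K S S' : Subgroup L} (hS : Syl K S) (hS' : Syl K S') :
    ∃ k ∈ K, ∀ t : L, t ∈ S' ↔ k⁻¹ * t * k ∈ S := by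
  haveI : Fact (Nat.Prime 2) := ⟨Nat.prime_two⟩
  have hc : ∀ {T : Subgroup L}, Syl K T → Nat.card (T.subgroupOf K) = 2 ^ (Nat.card K).factorization 2 :=
    fun hT => (Nat.card_congr (Subgroup.subgroupOfEquivOfLe hT.1).toEquiv).trans hT.2
  obtain ⟨k, hk⟩ := MulAction.exists_smul_eq K (Sylow.ofCard _ (hc hS)) (Sylow.ofCard _ (hc hS'))
  refine ⟨k, k.2, fun t => ?_⟩
  have h1 : ∀ t : K, t ∈ S'.subgroupOf K ↔ k⁻¹ * t * k ∈ S.subgroupOf K := by
    intro t
    have h2 := congrArg (fun P : Sylow 2 K => t ∈ (P : Subgroup K)) hk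
    simp only [Sylow.coe_subgroup_smul, Sylow.coe_ofCard, eq_iff_iff] at h2
    rw [← h2, Subgroup.mem_pointwise_smul_iff_inv_smul_mem]
    simp [MulAut.smul_def, mul_assoc]
  constructor
  · intro ht
    simpa [Subgroup.mem_subgroupOf] using (h1 ⟨t, hS'.1 ht⟩).1 ht
  · intro ht
    have htK : t ∈ K := by
      have := mul_mem (mul_mem k.2 (hS.1 ht)) (inv_mem k.2)
      simpa [mul_assoc] using this
    exact (h1 ⟨t, htK⟩).2 (by simpa [Subgroup.mem_subgroupOf] using ht)

namespace Setting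

variable {E X : Type*} [Finite L] [Group E] [Finite E] [MulDistribMulAction L E] [MulAction L X]
  [Finite X] {C : Subgroup L} {x₀ : X} {β : ℕ} (h : Setting L E X C x₀ β)
include h

omit [Finite L] [Finite E] [Finite X] h in
/-- The vectors fixed by `S`. -/
def fixed (S : Subgroup L) (E : Type*) [Group E] [MulDistribMulAction L E] : Subgroup E where
  carrier := {f | ∀ s ∈ S, s • f = f}
  one_mem' := fun s _ => smul_one s
  mul_mem' := fun {a b} ha hb s hs => by rw [smul_mul', ha s hs, hb s hs]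
  inv_mem' := fun {a} ha s hs => by rw [smul_inv', ha s hs]

/-- A Sylow subgroup of a transitive normal subgroup is transitive. -/
theorem syl_trans {K S : Subgroup L} [K.Normal] (hK : K ≠ ⊥) (hS : Syl K S) (a : X) :
    ∃ s ∈ S, s • x₀ = a := by
  classical
  haveI : Fact (Nat.Prime 2) := ⟨Nat.prime_two⟩
  haveI : IsPretransitive K X := ⟨fun a b => by
    obtain ⟨g, hg, rfl⟩ := h.normal_trans K hK a
    obtain ⟨k, hk, rfl⟩ := h.normal_trans K hK b
    exact ⟨⟨k * g⁻¹, mul_mem hk (inv_mem hg)⟩, by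
      show (k * g⁻¹) • g • x₀ = k • x₀
      rw [mul_smul, inv_smul_smul]⟩⟩
  have h1 : 2 ^ β * Nat.card (stabilizer K x₀) = Nat.card K := by
    rw [← h.card_X, ← index_stabilizer_of_transitive K x₀, Subgroup.index_mul_card]
  have h2 : (Nat.card K).factorization 2 = β + (Nat.card (stabilizer K x₀)).factorization 2 := by
    rw [← h1, Nat.factorization_mul (by positivity) Nat.card_pos.ne', Finsupp.add_apply,
      Nat.Prime.factorization_pow Nat.prime_two, Finsupp.single_eq_same]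
  have hP : IsPGroup 2 S := IsPGroup.of_card hS.2
  have h3 : Nat.card (stabilizer S x₀) ≤ 2 ^ (Nat.card (stabilizer K x₀)).factorization 2 := by
    obtain ⟨n, hn⟩ := IsPGroup.iff_card.1 (hP.to_subgroup (stabilizer S x₀))
    rw [hn]
    refine Nat.pow_le_pow_right (by norm_num)
      ((Nat.Prime.pow_dvd_iff_le_factorization Nat.prime_two Nat.card_pos.ne').1 ?_)
    rw [← hn]
    exact Subgroup.card_dvd_of_injective
      (⟨⟨fun s => ⟨⟨s.1.1, hS.1 s.1.2⟩, s.2⟩, rfl⟩, fun _ _ => rfl⟩ : stabilizer S x₀ →* stabilizer K x₀)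
      fun s t e1 => Subtype.ext (Subtype.ext (congrArg (fun u : stabilizer K x₀ => ((u : K) : L)) e1))
  have h4 : 2 ^ β ≤ (orbit S x₀).ncard := by
    have h5 := (stabilizer S x₀).index_mul_card
    rw [MulAction.index_stabilizer, hS.2, h2, pow_add] at h5
    refine Nat.le_of_mul_le_mul_right (c := 2 ^ (Nat.card (stabilizer K x₀)).factorization 2) ?_ (by positivity)
    rw [← h5]
    exact Nat.mul_le_mul_left _ h3
  have h6 : orbit S x₀ = Set.univ := by
    refine Set.eq_of_subset_of_ncard_le (Set.subset_univ _) ?_ (Set.toFinite _)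
    rw [Set.ncard_univ, h.card_X]
    exact h4
  obtain ⟨s, hs⟩ : a ∈ orbit S x₀ := h6 ▸ Set.mem_univ a
  exact ⟨s, s.2, hs⟩

/-- **The fixed vectors of a Sylow subgroup of the block kernel.** -/
theorem fixed_shape (hodd : ¬ Odd β) {e₀ : E} (he₀ : e₀ ≠ 1) {H : Subgroup L} (hH : stabilizer L e₀ ≤ H)
    (hCH : C ⊓ H ≠ ⊥) (hdvd : Nat.card (C ⊓ H : Subgroup L) - 1 ∣ Nat.card (stabilizer L e₀)) {S : Subgroup L}
    (hS : Syl H.normalCore S) :
    ∃ w, β = 2 * w ∧ Nat.card (fixed S E) = 2 ^ w ∧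
      ∀ f f' : E, f ∈ fixed S E → f ≠ 1 → f' ∈ fixed S E → f' ≠ 1 →
        (∃ a ∈ C, a ∈ H ∧ a • f = f') → f = f' := by
  classical
  haveI : Fact (Nat.Prime 2) := ⟨Nat.prime_two⟩
  set K := H.normalCore with hK
  haveI : K.Normal := Subgroup.normalCore_normal H
  have hKne : K ≠ ⊥ := fun e1 => hCH (eq_bot_iff.2 fun c hc => e1 ▸ h.mem_core he₀ hH hc.1 hc.2)
  set W := fixed S E with hW
  -- the dimension of the fixed part
  obtain ⟨w, -, hw⟩ := (Nat.dvd_prime_pow Nat.prime_two).1 (h.card_E ▸ W.card_subgroup_dvd_card)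
  have hP : IsPGroup 2 S := IsPGroup.of_card hS.2
  have hw0 : 0 < w := by
    obtain ⟨f, hf, hf1⟩ := hP.exists_fixed_point_of_prime_dvd_card_of_fixed_point E
      (by rw [h.card_E]; exact dvd_pow_self 2 (by have := h.two_le; omega)) (a := 1) (fun g => smul_one (g : L))
    by_contra hh
    obtain rfl : w = 0 := by omega
    rw [pow_zero] at hw
    exact hf1 (Subgroup.mem_bot.1 ((Subgroup.card_eq_one.1 hw) ▸ (fun s hs => hf ⟨s, hs⟩ : f ∈ W))).symm
  have hwβ : w < β := by
    have hle : 2 ^ w ≤ 2 ^ β := hw ▸ h.card_E ▸ Nat.card_le_card_of_injective _ Subtype.val_injective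
    refine lt_of_le_of_ne ((Nat.pow_le_pow_iff_right (by norm_num)).1 hle) fun e1 => ?_
    have hWtop : W = ⊤ := Subgroup.eq_top_of_card_eq _ (by rw [hw, e1, h.card_E])
    obtain ⟨a, ha⟩ := h.exists_point_ne
    obtain ⟨s, hs, hsa⟩ := h.syl_trans hKne hS a
    have : s = 1 := h.singer.faith s fun f => (hWtop.symm ▸ Subgroup.mem_top f : f ∈ W) s hs
    rw [this, one_smul] at hsa
    exact ha hsa.symm
  -- the coset of a vector
  have hcls : ∀ f : {f : W // (f : E) ≠ 1}, ∃ c ∈ C, c • e₀ = (f.1 : E) := fun f =>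
    h.singer.trans e₀ _ he₀ f.2
  choose cf hcfC hcf using hcls
  let cls : {f : W // (f : E) ≠ 1} → L ⧸ H := fun f => ((cf f : L) : L ⧸ H)
  have hclsmul : ∀ (g : L) (f f' : {f : W // (f : E) ≠ 1}), g • (f.1 : E) = f'.1 → cls f' = g • cls f := by
    intro g f f' hg
    show ((cf f' : L) : L ⧸ H) = ((g * cf f : L) : L ⧸ H)
    refine QuotientGroup.eq.2 (hH (mem_stabilizer_iff.2 ?_))
    rw [mul_smul, mul_smul, hcf, hg, ← hcf f', inv_smul_smul]
  have hcore : ∀ k ∈ K, ∀ q : L ⧸ H, k • q = q := by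
    intro k hk q
    induction q using QuotientGroup.induction_on with | H g => ?_
    rw [MulAction.Quotient.smul_coe, smul_eq_mul, QuotientGroup.eq, mul_inv_rev]
    have h1 := H.normalCore_le ((Subgroup.normalCore_normal H).conj_mem _ (inv_mem hk) g⁻¹)
    simpa [mul_assoc] using h1
  let F0 := {f : {f : W // (f : E) ≠ 1} // cls f = ((1 : L) : L ⧸ H)}
  -- all cosets carry equally many fixed vectors
  have hfib : ∀ q : L ⧸ H, Nat.card {f : {f : W // (f : E) ≠ 1} // cls f = q} = Nat.card F0 := by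
    intro q
    induction q using QuotientGroup.induction_on with | H g => ?_
    obtain ⟨c, hc, b, hb, rfl⟩ := h.exists_mul he₀ hH g
    have hq : ((c * b : L) : L ⧸ H) = ((c : L) : L ⧸ H) := QuotientGroup.eq.2 (by
      rw [mul_inv_rev, mul_assoc, inv_mul_cancel, mul_one]; exact inv_mem hb)
    rw [hq]
    obtain ⟨k, hk, hkS⟩ := hS.exists_conj (hS.conj c⁻¹)
    have hfix : ∀ f : E, f ∈ W ↔ (c * k) • f ∈ W := by
      intro f
      have hmem : ∀ t : L, t ∈ S ↔ (c * k)⁻¹ * t * (c * k) ∈ S := by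
        intro t
        have h1 := hkS (c⁻¹ * t * c)
        have h2 : c⁻¹ * t * c ∈ S.map (MulAut.conj c⁻¹).toMonoidHom ↔ t ∈ S := by
          constructor
          · rintro ⟨s, hs, hst⟩
            simp only [MulEquiv.coe_toMonoidHom, MulAut.conj_apply, inv_inv] at hst
            exact (mul_left_cancel (mul_right_cancel hst)) ▸ hs
          · exact fun hs => ⟨t, hs, by simp⟩
        rw [← h2, h1]
        simp [mul_assoc]
      constructor
      · intro hf t ht
        have h1 := hf _ ((hmem t).1 ht)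
        rw [mul_smul, mul_smul] at h1
        exact inv_smul_eq_iff.1 h1
      · intro hf s hs
        have h1 := hf ((c * k) * s * (c * k)⁻¹) ((hmem _).2 (by simpa [mul_assoc] using hs))
        rw [mul_smul, mul_smul, inv_smul_smul] at h1
        exact smul_left_cancel _ h1
    let F : {f : W // (f : E) ≠ 1} ≃ {f : W // (f : E) ≠ 1} :=
      { toFun := fun f => ⟨⟨(c * k) • (f.1 : E), (hfix _).1 f.1.2⟩, h.singer.smul_ne_one f.2⟩
        invFun := fun f => ⟨⟨(c * k)⁻¹ • (f.1 : E), (hfix _).2 (by rw [smul_inv_smul]; exact f.1.2)⟩,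
          h.singer.smul_ne_one f.2⟩
        left_inv := fun f => Subtype.ext (Subtype.ext (inv_smul_smul _ _))
        right_inv := fun f => Subtype.ext (Subtype.ext (smul_inv_smul _ _)) }
    symm
    refine Nat.card_congr (F.subtypeEquiv fun f => ?_)
    rw [hclsmul (c * k) f (F f) rfl, mul_smul, hcore k hk,
      show ((c : L) : L ⧸ H) = c • ((1 : L) : L ⧸ H) by rw [MulAction.Quotient.smul_coe, smul_eq_mul, mul_one]]
    exact (smul_left_cancel_iff c).symm
  have hcard : Nat.card {f : W // (f : E) ≠ 1} = H.index * Nat.card F0 := by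
    letI := Fintype.ofFinite (L ⧸ H)
    rw [Nat.card_congr (Equiv.sigmaFiberEquiv cls).symm, Nat.card_sigma, Finset.sum_congr rfl fun q _ => hfib q,
      Finset.sum_const, smul_eq_mul, Finset.card_univ, Subgroup.index_eq_card, ← Nat.card_eq_fintype_card]
  have hW1 : Nat.card {f : W // (f : E) ≠ 1} = 2 ^ w - 1 := by
    have h1 := Nat.card_congr (Equiv.optionSubtypeNe (1 : W))
    rw [Finite.card_option, hw] at h1
    rw [Nat.card_congr (Equiv.subtypeEquivRight fun f : W => by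
      rw [Ne, Ne, ← Subgroup.coe_one W]; exact Subtype.ext_iff.symm.not : {f : W // (f : E) ≠ 1} ≃ {f : W // f ≠ 1})]
    omega
  rw [hW1] at hcard
  obtain ⟨hidx, -⟩ := h.index_mul he₀ hH
  set b := Nat.card (C ⊓ H : Subgroup L) with hb
  have hb1 : 1 < b := (Subgroup.one_lt_card_iff_ne_bot _).2 hCH
  obtain ⟨d, hdβ, -, -, hd⟩ := h.exists_order he₀
  rw [hd] at hdvd
  have hbq : b ∣ 2 ^ β - 1 := ⟨H.index, by rw [← hidx, mul_comm]⟩
  have hu : Nat.card F0 * (2 ^ β - 1) = b * (2 ^ w - 1) := by rw [← hidx, hcard]; ring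
  obtain hβ | ⟨hβ, hu1⟩ := block_arith hw0 hwβ hb1 hbq hu hdβ hdvd
  · exact absurd hβ hodd
  refine ⟨w, hβ, hw, ?_⟩
  rintro f f' hf hf1 hf' hf1' ⟨a, haC, haH, haf⟩
  -- the same coset
  let v : {f : W // (f : E) ≠ 1} := ⟨⟨f, hf⟩, hf1⟩
  let v' : {f : W // (f : E) ≠ 1} := ⟨⟨f', hf'⟩, hf1'⟩
  have h1 : cls v' = cls v := by rw [hclsmul a v v' haf, hcore a (h.mem_core he₀ hH haC haH)]
  have h2 : Nat.card {g : {f : W // (f : E) ≠ 1} // cls g = cls v} ≤ 1 := by rw [hfib, hu1]
  have := (Finite.card_le_one_iff_subsingleton.1 h2).elim ⟨v, rfl⟩ ⟨v', h1⟩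
  exact congrArg (fun g : {g : {f : W // (f : E) ≠ 1} // cls g = cls v} => ((g.1.1 : W) : E)) this

/-- **The fixed vectors are an orbit of a subgroup of `C`.** -/
theorem exists_inv {K S : Subgroup L} [K.Normal] (hK : K ≠ ⊥) (hS : Syl K S) {w : ℕ} (hw : 0 < w)
    (hβ : β = 2 * w) (hWcard : Nat.card (fixed S E) = 2 ^ w) :
    ∃ A : Subgroup L, A ≤ C ∧ Nat.card A = 2 ^ w - 1 ∧
      ∀ f : E, f ∈ fixed S E → f ≠ 1 → ∀ f' : E, ((f' ∈ fixed S E ∧ f' ≠ 1) ↔ ∃ a ∈ A, a • f = f') := by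
  classical
  haveI : Fact (Nat.Prime 2) := ⟨Nat.prime_two⟩
  set W := fixed S E with hW
  let A : Subgroup L :=
    { carrier := {c | c ∈ C ∧ ∀ f : E, f ∈ W ↔ c • f ∈ W}
      one_mem' := ⟨one_mem C, fun f => by rw [one_smul]⟩
      mul_mem' := fun {a b} ha hb => ⟨mul_mem ha.1 hb.1, fun f => by rw [mul_smul, ← ha.2, ← hb.2]⟩
      inv_mem' := fun {a} ha => ⟨inv_mem ha.1, fun f => by rw [ha.2 (a⁻¹ • f), smul_inv_smul]⟩ }
  have hAC : A ≤ C := fun a ha => ha.1
  obtain ⟨e, he, he1⟩ : ∃ e, e ∈ W ∧ e ≠ 1 := by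
    by_contra hh
    push Not at hh
    have : Nat.card W = 1 := Subgroup.card_eq_one.2 (eq_bot_iff.2 fun f hf => Subgroup.mem_bot.2 (hh f hf))
    rw [hWcard] at this
    exact absurd this (Nat.one_lt_two_pow hw.ne').ne'
  -- an additive subgroup
  have hstable : ∀ c : L, (∀ f ∈ W, c • f ∈ W) → ∀ f : E, f ∈ W ↔ c • f ∈ W := by
    intro c hc f
    refine ⟨hc f, fun hf => ?_⟩
    let F : W → W := fun g => ⟨c • (g : E), hc g g.2⟩
    obtain ⟨g, hg⟩ := (Finite.injective_iff_surjective.1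
      (show Function.Injective F from fun g k e2 => Subtype.ext (smul_left_cancel c (congrArg Subtype.val e2))))
      ⟨c • f, hf⟩
    exact smul_left_cancel c (congrArg Subtype.val hg) ▸ g.2
  let W0 : Subgroup E :=
    { carrier := {f | f = 1 ∨ ∃ a ∈ A, a • e = f}
      one_mem' := Or.inl rfl
      inv_mem' := fun {f} hf => by rw [inv_eq_of_mul_eq_one_left (h.singer.sq f)]; exact hf
      mul_mem' := by
        rintro f g (rfl | ⟨a, ha, rfl⟩) hg
        · rwa [one_mul]
        rcases hg with rfl | ⟨b, hb, rfl⟩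
        · rw [mul_one]; exact Or.inr ⟨a, ha, rfl⟩
        by_cases hab : a • e = b • e
        · rw [hab, h.singer.sq]; exact Or.inl rfl
        obtain ⟨c, hc, hcs⟩ := h.singer.exists_mul_smul ha.1 hb.1 he1 hab
        refine Or.inr ⟨c, ⟨hc, hstable c fun f hf => ?_⟩, (hcs e).symm⟩
        rw [← hcs f]
        exact mul_mem ((ha.2 f).1 hf) ((hb.2 f).1 hf) }
  obtain ⟨i, -, hi⟩ := (Nat.dvd_prime_pow Nat.prime_two).1 (h.card_E ▸ W0.card_subgroup_dvd_card)
  have hA : Nat.card A = 2 ^ i - 1 := by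
    have h1 := Nat.card_congr (Equiv.optionSubtypeNe (1 : W0))
    rw [Finite.card_option, hi] at h1
    have h2 : Nat.card A = Nat.card {f : W0 // f ≠ 1} := by
      refine Nat.card_eq_of_bijective (fun a => ⟨⟨(a : L) • e, Or.inr ⟨a, a.2, rfl⟩⟩, fun e1 =>
        h.singer.smul_ne_one he1 (congrArg Subtype.val e1)⟩) ⟨fun a b hab => ?_, fun ⟨⟨f, hf⟩, hf1⟩ => ?_⟩
      · exact Subtype.ext (h.singer.eq_of_smul_eq a.2.1 b.2.1 he1
          (congrArg (fun f : {f : W0 // f ≠ 1} => ((f : W0) : E)) hab))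
      · obtain ⟨a, ha, hae⟩ := hf.resolve_left fun e1 => hf1 (Subtype.ext e1)
        exact ⟨⟨a, ha⟩, Subtype.ext (Subtype.ext hae)⟩
    omega
  -- the orbits of `A` on the fixed vectors
  have hdiv : 2 ^ i - 1 ∣ 2 ^ w - 1 := by
    rw [← hA]
    letI : MulAction A {f : W // (f : E) ≠ 1} :=
      { smul := fun a f => ⟨⟨(a : L) • (f.1 : E), (a.2.2 _).1 f.1.2⟩, h.singer.smul_ne_one f.2⟩
        one_smul := fun f => Subtype.ext (Subtype.ext (one_smul L (f.1 : E)))
        mul_smul := fun a b f => Subtype.ext (Subtype.ext (mul_smul (a : L) (b : L) (f.1 : E))) }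
    have hst : ∀ f : {f : W // (f : E) ≠ 1}, stabilizer A f = ⊥ := fun f => (Subgroup.eq_bot_iff_forall _).2
      fun a ha => Subtype.ext (h.singer.eq_one_of_fix a.2.1 f.2
        (congrArg (fun g : {f : W // (f : E) ≠ 1} => ((g.1 : W) : E)) ha))
    have h1 : Nat.card {f : W // (f : E) ≠ 1} = 2 ^ w - 1 := by
      have h2 := Nat.card_congr (Equiv.optionSubtypeNe (1 : W))
      rw [Finite.card_option, hWcard] at h2
      rw [Nat.card_congr (Equiv.subtypeEquivRight fun f : W => by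
        rw [Ne, Ne, ← Subgroup.coe_one W]; exact Subtype.ext_iff.symm.not : {f : W // (f : E) ≠ 1} ≃ {f : W // f ≠ 1})]
      omega
    rw [← h1, Nat.card_congr (selfEquivOrbitsQuotientProd hst), Nat.card_prod]
    exact dvd_mul_left _ _
  have hiw : i ∣ w := by
    have h1 := Nat.pow_sub_one_gcd_pow_sub_one 2 i w
    rw [Nat.gcd_eq_left hdiv] at h1
    have h2 : 2 ^ i = 2 ^ Nat.gcd i w := by
      have := Nat.one_le_two_pow (n := i)
      have := Nat.one_le_two_pow (n := Nat.gcd i w)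
      omega
    rw [Nat.pow_right_injective le_rfl h2]
    exact Nat.gcd_dvd_right i w
  -- the normalizer of `S` at the point
  obtain ⟨d, hdβ, -, hdC, -⟩ := h.exists_order he1
  set N₀ : Subgroup L := Subgroup.normalizer (S : Set L) ⊓ stabilizer L x₀ with hN₀
  have hNW : ∀ n ∈ N₀, ∀ f ∈ W, n • f ∈ W := by
    intro n hn f hf t ht
    have h1 := hf _ ((Subgroup.mem_normalizer_iff.1 (inv_mem hn.1) t).1 ht)
    rw [inv_inv, mul_smul, mul_smul] at h1
    exact inv_smul_eq_iff.1 h1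
  have hN : ∀ f f' : E, f ∈ W → f ≠ 1 → f' ∈ W → f' ≠ 1 → ∃ n ∈ N₀, n • f = f' := by
    intro f f' hf hf1 hf' hf1'
    obtain ⟨g, -, hg⟩ := h.singer.trans f f' hf1 hf1'
    -- both `S` and its conjugate fix `f'`
    set K1 := K ⊓ stabilizer L f' with hK1
    have hle : S ≤ K1 := fun t ht => ⟨hS.1 ht, hf' t ht⟩
    have hle' : S.map (MulAut.conj g).toMonoidHom ≤ K1 := by
      rintro _ ⟨t, ht, rfl⟩
      refine ⟨(hS.conj g).1 ⟨t, ht, rfl⟩, mem_stabilizer_iff.2 ?_⟩
      simp only [MulEquiv.coe_toMonoidHom, MulAut.conj_apply]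
      rw [← hg, mul_smul, mul_smul, inv_smul_smul, hf t ht]
    have hsyl : ∀ T : Subgroup L, Syl K T → T ≤ K1 → Syl K1 T := fun T hT hT1 => ⟨hT1, by
      refine le_antisymm ?_ ?_
      · obtain ⟨n, hn⟩ := IsPGroup.iff_card.1 (IsPGroup.of_card hT.2 : IsPGroup 2 T)
        rw [hn]
        refine Nat.pow_le_pow_right (by norm_num)
          ((Nat.Prime.pow_dvd_iff_le_factorization Nat.prime_two Nat.card_pos.ne').1 ?_)
        rw [← hn]
        exact Subgroup.card_dvd_of_le hT1
      · rw [hT.2]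
        exact Nat.pow_le_pow_right (by norm_num) ((Nat.factorization_le_iff_dvd Nat.card_pos.ne'
          Nat.card_pos.ne').2 (Subgroup.card_dvd_of_le inf_le_left) 2)⟩
    obtain ⟨k, hk, hkS⟩ := (hsyl _ hS hle).exists_conj (hsyl _ (hS.conj g) hle')
    have hn : k⁻¹ * g ∈ Subgroup.normalizer (S : Set L) := by
      refine Subgroup.mem_normalizer_iff.2 fun t => ?_
      have h1 := hkS (g * t * g⁻¹)
      have h2 : g * t * g⁻¹ ∈ S.map (MulAut.conj g).toMonoidHom ↔ t ∈ S := by
        constructor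
        · rintro ⟨s, hs, hst⟩
          simp only [MulEquiv.coe_toMonoidHom, MulAut.conj_apply] at hst
          exact (mul_left_cancel (mul_right_cancel hst)) ▸ hs
        · exact fun hs => ⟨t, hs, by simp⟩
      rw [← h2, h1]
      simp [mul_assoc]
    -- correct the point by `S`
    obtain ⟨t, ht, htx⟩ := h.syl_trans hK hS ((k⁻¹ * g) • x₀)
    refine ⟨t⁻¹ * (k⁻¹ * g), ⟨Subgroup.mul_mem _ (Subgroup.inv_mem _ (Subgroup.le_normalizer ht)) hn, mem_stabilizer_iff.2 ?_⟩, ?_⟩
    · rw [mul_smul, ← htx, inv_smul_smul]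
    · rw [mul_smul, mul_smul, hg, inv_smul_eq_iff.2 (mem_stabilizer_iff.1 hk.2).symm,
        inv_smul_eq_iff.2 (hf' t ht).symm]
  have hNdvd : 2 ^ w - 1 ∣ Nat.card N₀ := by
    have h1 : orbit N₀ e = {f : E | f ∈ W ∧ f ≠ 1} := by
      ext f
      refine ⟨?_, fun hf => ?_⟩
      · rintro ⟨n, rfl⟩; exact ⟨hNW n n.2 e he, h.singer.smul_ne_one he1⟩
      · obtain ⟨n, hn, hne⟩ := hN e f he he1 hf.1 hf.2; exact ⟨⟨n, hn⟩, hne⟩
    have h2 : (orbit N₀ e).ncard = 2 ^ w - 1 := by
      rw [h1, show {f : E | f ∈ W ∧ f ≠ 1} = (W : Set E) \ {1} from rfl,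
        Set.ncard_sdiff_singleton_of_mem (one_mem W), ← Nat.card_coe_set_eq, SetLike.coe_sort_coe, hWcard]
    rw [← h2, ← MulAction.index_stabilizer]
    exact Subgroup.index_dvd_card _
  have hbound : Nat.card N₀ ∣ Nat.card A * d := by
    set St := stabilizer L x₀
    haveI hCn : (C.subgroupOf St).Normal := ⟨fun a ha g => Subgroup.mem_subgroupOf.2
      (h.norm g g.2 a (Subgroup.mem_subgroupOf.1 ha))⟩
    have hCle : C ≤ St := fun c hc => mem_stabilizer_iff.2 (h.fix c hc)
    have h1 : (C.subgroupOf St).index = d := by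
      have h2 := (C.subgroupOf St).index_mul_card
      rw [Nat.card_congr (Subgroup.subgroupOfEquivOfLe hCle).toEquiv, hdC, mul_comm] at h2
      exact Nat.eq_of_mul_eq_mul_left Nat.card_pos h2
    have h3 := Subgroup.relIndex_dvd_index_of_normal (C.subgroupOf St) (N₀.subgroupOf St)
    rw [h1, Subgroup.relIndex_subgroupOf inf_le_right] at h3
    have h4 : Nat.card (C ⊓ N₀ : Subgroup L) * C.relIndex N₀ = Nat.card N₀ := by
      rw [← Subgroup.inf_relIndex_right, Subgroup.relIndex,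
        ← Nat.card_congr (Subgroup.subgroupOfEquivOfLe (inf_le_right : C ⊓ N₀ ≤ N₀)).toEquiv,
        Subgroup.card_mul_index]
    rw [← h4]
    refine Nat.mul_dvd_mul (Subgroup.card_dvd_of_le ?_) h3
    intro c hc
    exact ⟨hc.1, hstable c (hNW c hc.2)⟩
  have hiw' : i = w := inv_arith hiw (hβ ▸ hdβ) ((hA ▸ hNdvd.trans hbound :)) hw
  subst hiw'
  refine ⟨A, hAC, hA, fun f hf hf1 f' => ⟨fun hf' => ?_, ?_⟩⟩
  · -- all fixed vectors are in one orbit
    have hsub : (W0 : Set E) ⊆ W := by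
      rintro g (rfl | ⟨a, ha, rfl⟩)
      exacts [one_mem W, (ha.2 e).1 he]
    have heq : W0 = W := Subgroup.eq_of_le_of_card_ge hsub (by rw [hi, hWcard])
    obtain ⟨a, ha, hae⟩ := ((heq ▸ hf : f ∈ W0) : f = 1 ∨ _).resolve_left hf1
    obtain ⟨b, hb, hbe⟩ := ((heq ▸ hf'.1 : f' ∈ W0) : f' = 1 ∨ _).resolve_left hf'.2
    exact ⟨b * a⁻¹, mul_mem hb (inv_mem ha), by rw [← hae, mul_smul, inv_smul_smul, hbe]⟩
  · rintro ⟨a, ha, rfl⟩
    exact ⟨(ha.2 f).1 hf, h.singer.smul_ne_one hf1⟩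

omit [Finite X] in
/-- The plane case is too small. -/
theorem ne_two [Finite X] : β ≠ 2 := by
  rintro rfl
  obtain ⟨e, he⟩ := h.exists_ne
  obtain ⟨d, -, hd0, hdC, -⟩ := h.exists_order he
  haveI : IsPretransitive L X := ⟨fun a b => by
    obtain ⟨g, rfl⟩ := h.trans_X a
    obtain ⟨k, rfl⟩ := h.trans_X b
    exact ⟨k * g⁻¹, by rw [mul_smul, inv_smul_smul]⟩⟩
  have h1 := (stabilizer L x₀).index_mul_card
  rw [index_stabilizer_of_transitive, h.card_X, hdC, h.card_C] at h1
  letI : MulAction L {f : E // f ≠ 1} :=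
    { smul := fun g f => ⟨g • f.1, h.singer.smul_ne_one f.2⟩
      one_smul := fun f => Subtype.ext (one_smul L f.1)
      mul_smul := fun g k f => Subtype.ext (mul_smul g k f.1) }
  have h2 : Nat.card L ≤ Nat.card (Equiv.Perm {f : E // f ≠ 1}) := by
    refine Nat.card_le_card_of_injective (toPermHom L {f : E // f ≠ 1})
      ((injective_iff_map_eq_one _).2 fun g hg => h.singer.faith g fun f => ?_)
    by_cases hf : f = 1
    · rw [hf, smul_one]
    exact congrArg Subtype.val (Equiv.congr_fun hg ⟨f, hf⟩)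
  rw [Nat.card_perm, h.card_ne_one, ← h1] at h2
  norm_num [Nat.factorial] at h2
  omega

/-- **The dimension is odd.** -/
theorem odd_dim : Odd β := by
  classical
  by_contra hodd
  obtain ⟨e₀, he₀⟩ := h.exists_ne
  obtain ⟨H, hH, hCH, hdvd⟩ := h.exists_block he₀
  set K := H.normalCore with hK
  haveI : K.Normal := Subgroup.normalCore_normal H
  have hKne : K ≠ ⊥ := fun e1 => hCH (eq_bot_iff.2 fun c hc => e1 ▸ h.mem_core he₀ hH hc.1 hc.2)
  obtain ⟨S, hS⟩ := exists_syl K
  obtain ⟨w, hβ, hW, huniq⟩ := h.fixed_shape hodd he₀ hH hCH hdvd hS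
  have hw2 : 2 ≤ w := by
    have := h.two_le
    by_contra hh
    exact h.ne_two (by omega)
  obtain ⟨A, hAC, hA, hAorb⟩ := h.exists_inv hKne hS (by omega) hβ hW
  -- a fixed vector
  obtain ⟨e, he, he1⟩ : ∃ e, e ∈ fixed S E ∧ e ≠ 1 := by
    by_contra hh
    push Not at hh
    have : Nat.card (fixed S E) = 1 :=
      Subgroup.card_eq_one.2 (eq_bot_iff.2 fun f hf => Subgroup.mem_bot.2 (hh f hf))
    rw [hW] at this
    exact absurd this (Nat.one_lt_two_pow (by omega)).ne'
  set W := fixed S E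
  let H₂ : Subgroup L :=
    { carrier := {g | ∀ f : E, f ∈ W ↔ g • f ∈ W}
      one_mem' := fun f => by rw [one_smul]
      mul_mem' := fun {a b} ha hb f => by rw [mul_smul, ← ha, ← hb]
      inv_mem' := fun {a} ha f => by rw [ha (a⁻¹ • f), smul_inv_smul] }
  have hH₂ : stabilizer L e ≤ H₂ := by
    intro g hg
    -- the conjugate Sylow subgroup has the same orbit
    obtain ⟨w', hβ', hW', -⟩ := h.fixed_shape hodd he₀ hH hCH hdvd (hS.conj g)
    obtain rfl : w = w' := by omega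
    obtain ⟨A', hA'C, hA', hA'orb⟩ := h.exists_inv hKne (hS.conj g) (by omega) hβ hW'
    have hAA : A' = A := by
      haveI := h.cyclic
      letI := Fintype.ofFinite C
      set n := 2 ^ w - 1
      have hn : 0 < n := hA ▸ Nat.card_pos
      have hsub : ∀ {B : Subgroup L} (hB : B ≤ C), Nat.card B = n →
          (Finset.univ.filter fun a : C => (a : L) ∈ B) = Finset.univ.filter fun a : C => a ^ n = 1 := by
        intro B hB hBn
        have hle : (Finset.univ.filter fun a : C => (a : L) ∈ B) ⊆ Finset.univ.filter fun a : C => a ^ n = 1 := by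
          intro a ha
          have h1 : (⟨(a : L), (Finset.mem_filter.1 ha).2⟩ : B) ^ n = 1 := hBn ▸ pow_card_eq_one'
          exact Finset.mem_filter.2 ⟨Finset.mem_univ _, Subtype.ext (congrArg Subtype.val h1 :)⟩
        refine Finset.eq_of_subset_of_card_le hle ?_
        refine (IsCyclic.card_pow_eq_one_le hn).trans ?_
        rw [← Fintype.card_subtype, ← Nat.card_eq_fintype_card]
        exact (hBn.symm.trans (Nat.card_congr ⟨fun b => ⟨⟨b.1, hB b.2⟩, b.2⟩, fun a => ⟨a.1.1, a.2⟩,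
          fun _ => rfl, fun _ => rfl⟩)).le
      refine Subgroup.ext fun a => ?_
      by_cases haC : a ∈ C
      · have h1 := Finset.ext_iff.1 ((hsub hA'C hA').trans (hsub hAC hA).symm) ⟨a, haC⟩
        simpa using h1
      · exact ⟨fun hh => absurd (hA'C hh) haC, fun hh => absurd (hAC hh) haC⟩
    have hmem : ∀ f : E, f ∈ fixed (S.map (MulAut.conj g).toMonoidHom) E ↔ g⁻¹ • f ∈ W := by
      intro f
      constructor
      · intro hf t ht
        have h3 := hf _ ⟨t, ht, rfl⟩
        simp only [MulEquiv.coe_toMonoidHom, MulAut.conj_apply, mul_smul] at h3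
        exact (eq_inv_smul_iff.2 h3)
      · rintro hf _ ⟨t, ht, rfl⟩
        simp only [MulEquiv.coe_toMonoidHom, MulAut.conj_apply, mul_smul]
        rw [hf t ht, smul_inv_smul]
    have hge : e ∈ fixed (S.map (MulAut.conj g).toMonoidHom) E := by
      rw [hmem, inv_smul_eq_iff.2 (mem_stabilizer_iff.1 hg).symm]
      exact he
    intro f
    by_cases hf : f = 1
    · rw [hf, smul_one]
    have h4 := hA'orb e hge he1 (g • f)
    rw [hAA, ← hAorb e he he1, hmem, inv_smul_smul] at h4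
    exact ⟨fun hh => (h4.1 ⟨hh, h.singer.smul_ne_one hf⟩).1, fun hh => (h4.2 ⟨hh, h.singer.smul_ne_one hf⟩).1⟩
  set K₂ := H₂.normalCore with hK₂
  haveI : K₂.Normal := Subgroup.normalCore_normal H₂
  have hAmem : ∀ a ∈ A, a ∈ K₂ := by
    intro a ha
    refine h.mem_core he1 hH₂ (hAC ha) fun f => ?_
    by_cases hf : f = 1
    · rw [hf, smul_one]
    refine ⟨fun hh => ((hAorb f hh hf (a • f)).2 ⟨a, ha, rfl⟩).1, fun hh => ?_⟩
    have h3 := ((hAorb (a • f) hh (h.singer.smul_ne_one hf) f).2 ⟨a⁻¹, inv_mem ha, inv_smul_smul a f⟩).1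
    exact h3
  have hK₂ne : K₂ ≠ ⊥ := by
    intro e1
    have h5 : A ≤ (⊥ : Subgroup L) := fun a ha => e1 ▸ hAmem a ha
    rw [le_bot_iff.1 h5, Subgroup.card_bot] at hA
    have : 2 ^ 2 ≤ 2 ^ w := Nat.pow_le_pow_right (by norm_num) hw2
    omega
  -- the two kernels meet trivially
  have hinf : K ⊓ K₂ = ⊥ := by
    refine h.eq_bot_of_fix_vector (K ⊓ K₂) he1 fun g hg => ?_
    have hgW : g • e ∈ W := (Subgroup.normalCore_le H₂ hg.2 e).1 he
    obtain ⟨c, hc, hce⟩ := h.singer.trans e (g • e) he1 (h.singer.smul_ne_one he1)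
    obtain ⟨b, hb, hbe⟩ := h.singer.trans e₀ e he₀ he1
    refine ((huniq e (g • e) he he1 hgW (h.singer.smul_ne_one he1) ⟨c, hc, ?_, hce⟩)).symm
    have h6 : b⁻¹ * g * b ∈ H := by
      have := H.normalCore_le ((Subgroup.normalCore_normal H).conj_mem g hg.1 b⁻¹)
      rwa [inv_inv] at this
    have h7 : (b⁻¹ * g * b)⁻¹ * c ∈ stabilizer L e₀ := mem_stabilizer_iff.2 (by
      rw [mul_smul, inv_smul_eq_iff, mul_smul, mul_smul, hbe, eq_inv_smul_iff, smul_smul, h.singer.comm b hb c hc,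
        mul_smul, hbe, hce])
    have := mul_mem h6 (hH h7)
    rwa [mul_inv_cancel_left] at this
  -- so they centralise one another
  refine hKne (h.eq_bot_of_free K fun g hg hgx => h.eq_one_of_fix_all fun a => ?_)
  obtain ⟨k, hk, rfl⟩ := h.normal_trans K₂ hK₂ne a
  have hcomm : g * k = k * g := by
    have h8 : g * k * g⁻¹ * k⁻¹ ∈ K ⊓ K₂ := ⟨by
      rw [show g * k * g⁻¹ * k⁻¹ = g * (k * g⁻¹ * k⁻¹) by group]
      exact mul_mem hg ((Subgroup.normalCore_normal H).conj_mem _ (Subgroup.inv_mem _ hg) k), by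
      exact mul_mem ((Subgroup.normalCore_normal H₂).conj_mem k hk g) (Subgroup.inv_mem _ hk)⟩
    rw [hinf, Subgroup.mem_bot, mul_inv_eq_one, mul_inv_eq_iff_eq_mul] at h8
    exact h8
  rw [smul_smul, hcomm, mul_smul, hgx]

end Setting

end CfsgLib.SECrit.Pencil
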