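import Mathlib.Data.Nat.GCD.Basic
import Mathlib.Algebra.Ring.Parity
import Mathlib.Tactic.Ring
import Mathlib.Tactic.IntervalCases
import Mathlib.Tactic.NormNum.GCD
import Mathlib.Tactic.Linarith
import Mathlib.Data.Nat.Factorization.Basic
import Mathlib.Data.Nat.Prime.Basic

/-!
# Arithmetic of a block system on the vectors of a two-group

`b` is the size of a block, `u` the number of fixed vectors in a block, `2 ^ w` the number of fixed
vectors in all, `2 ^ β` the number of vectors.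
-/

set_option autoImplicit false

namespace CfsgLib.SECrit.Pencil

/-- A repunit in base `Q` is one more than a multiple of `Q` and exceeds the largest power in it. -/
theorem repunit {Q R k : ℕ} (hQ : 2 ≤ Q) (h : R * (Q - 1) + 1 = Q ^ (k + 1)) :
    ∃ R' : ℕ, R = Q * R' + 1 ∧ R' * (Q - 1) + 1 = Q ^ k ∧ (0 < k → Q ^ k + 1 ≤ R) := by
  obtain ⟨P, rfl⟩ : ∃ P, Q = P + 1 := ⟨Q - 1, by omega⟩
  rw [Nat.add_sub_cancel] at h ⊢
  have hk : 1 ≤ (P + 1) ^ k := Nat.one_le_pow _ _ (by omega)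
  rw [pow_succ] at h
  obtain ⟨d, hd⟩ : ∃ d, R = (P + 1) ^ k + d := by
    refine Nat.exists_eq_add_of_le ?_
    by_contra hlt
    push Not at hlt
    have h1 := Nat.mul_le_mul_right P (Nat.succ_le_of_lt hlt)
    rw [Nat.succ_mul] at h1
    nlinarith
  subst hd
  refine ⟨d, by nlinarith, by nlinarith, fun hk0 => ?_⟩
  have : 1 < (P + 1) ^ k := Nat.one_lt_pow hk0.ne' (by omega)
  rcases Nat.eq_zero_or_pos d with rfl | hd0
  · exfalso; nlinarith
  · omega

theorem two_mul_le_pow (m : ℕ) : 2 * m ≤ 2 ^ m := by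
  rcases m with - | m
  · simp
  · rw [pow_succ, Nat.mul_comm 2]
    exact Nat.mul_le_mul_right 2 (Nat.lt_two_pow_self)

/-- **The block arithmetic.** -/
theorem block_arith {β w b u d : ℕ} (hw : 0 < w) (hwβ : w < β) (hb : 1 < b) (hbq : b ∣ 2 ^ β - 1)
    (hu : u * (2 ^ β - 1) = b * (2 ^ w - 1)) (hd : d ∣ β) (hdvd : b - 1 ∣ 2 ^ β * d) :
    Odd β ∨ (β = 2 * w ∧ u = 1) := by
  set g := Nat.gcd w β with hg
  have hg0 : 0 < g := Nat.gcd_pos_of_pos_left _ hw
  have hgw : g ≤ w := Nat.gcd_le_left _ hw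
  set Q := 2 ^ g with hQ
  have hQ2 : 2 ≤ Q := by
    have := Nat.pow_le_pow_right (show 0 < 2 by norm_num) (show 1 ≤ g from hg0)
    omega
  obtain ⟨j, hj⟩ := Nat.gcd_dvd_right w β
  obtain ⟨i, hi⟩ := Nat.gcd_dvd_left w β
  rw [← hg] at hj hi
  have hgcd : Nat.gcd (2 ^ w - 1) (2 ^ β - 1) = Q - 1 := Nat.pow_sub_one_gcd_pow_sub_one 2 w β
  obtain ⟨R, hR⟩ : Q - 1 ∣ 2 ^ β - 1 := hgcd ▸ Nat.gcd_dvd_right _ _
  obtain ⟨W, hW⟩ : Q - 1 ∣ 2 ^ w - 1 := hgcd ▸ Nat.gcd_dvd_left _ _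
  have hcop : Nat.Coprime R W := by
    have h1 : Nat.gcd (2 ^ w - 1) (2 ^ β - 1) = (Q - 1) * Nat.gcd W R := by rw [hR, hW, Nat.gcd_mul_left]
    rw [hgcd] at h1
    have : Nat.gcd W R = 1 := Nat.eq_of_mul_eq_mul_left (show 0 < Q - 1 by omega) (by rw [mul_one]; exact h1.symm)
    exact Nat.Coprime.symm this
  have huR : u * R = b * W :=
    Nat.eq_of_mul_eq_mul_left (show 0 < Q - 1 by omega) (by rw [hR, hW] at hu; linarith)
  obtain ⟨t, rfl⟩ : R ∣ b := hcop.dvd_of_dvd_mul_right ⟨u, by rw [← huR]; ring⟩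
  have hR0 : 0 < R := Nat.pos_of_ne_zero fun e => by simp [e] at hb
  have hut : u = t * W := Nat.eq_of_mul_eq_mul_right hR0 (by rw [huR]; ring)
  have htQ : t ∣ Q - 1 := by
    rw [hR, mul_comm (Q - 1) R] at hbq
    exact (Nat.mul_dvd_mul_iff_left hR0).1 hbq
  have hj2 : 2 ≤ j := by
    by_contra hh
    have : g * j ≤ g * 1 := Nat.mul_le_mul_left g (by omega)
    omega
  obtain ⟨k, rfl⟩ : ∃ k, j = k + 2 := ⟨j - 2, by omega⟩
  have hRQ : R * (Q - 1) + 1 = Q ^ (k + 1 + 1) := by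
    rw [mul_comm, ← hR, hQ, ← pow_mul, show g * (k + 1 + 1) = β by rw [hj]]
    have := Nat.one_le_two_pow (n := β)
    omega
  obtain ⟨R', hR', hR'Q, hRge⟩ := repunit hQ2 hRQ
  have hQeven : 2 ∣ Q := dvd_pow_self 2 hg0.ne'
  -- odd divisors of `b - 1` divide `β`
  have hodd : ∀ o : ℕ, Odd o → o ∣ R * t - 1 → o ∣ β := fun o ho h1 =>
    ((Nat.Coprime.pow_right β (Nat.coprime_two_right.2 ho)).dvd_of_dvd_mul_left (h1.trans hdvd)).trans hd
  have hβ0 : 0 < β := by omega
  by_cases ht : t = 1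
  · subst ht
    rw [mul_one] at hodd hb hdvd
    rcases Nat.eq_zero_or_pos k with rfl | hk
    · -- two blocks
      right
      have hw' : w = g := by
        rcases i with - | - | i
        · omega
        · omega
        · have : g * 2 ≤ g * (i + 1 + 1) := Nat.mul_le_mul_left g (by omega)
          omega
      refine ⟨by rw [hj, hw']; ring, ?_⟩
      rw [one_mul] at hut
      rw [hw', ← hQ] at hW
      rw [hut]
      exact Nat.eq_of_mul_eq_mul_left (show 0 < Q - 1 by omega) (by rw [mul_one]; exact hW.symm)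
    left
    obtain ⟨R'', hR'', hR''Q, hR'ge⟩ := repunit hQ2 hR'Q
    have hR'odd : Odd R' := by
      rw [hR'', Nat.odd_add_one, Nat.not_odd_iff_even]
      exact (even_iff_two_dvd.2 hQeven).mul_right _
    have hdv : R' ∣ β := hodd R' hR'odd ⟨Q, by rw [hR']; ring_nf; omega⟩
    have hle : Q ^ k + 1 ≤ β := (hR'ge hk).trans (Nat.le_of_dvd hβ0 hdv)
    rw [hQ, ← pow_mul] at hle
    have hm : g * k ≤ 3 := by
      by_contra hh
      push Not at hh
      have h2 : g * (k + 2) ≤ 3 * (g * k) := by nlinarith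
      have h3 : ∀ m, 4 ≤ m → 3 * m < 2 ^ m + 1 := by
        intro m hm
        induction m, hm using Nat.le_induction with
        | base => norm_num
        | succ m hm ih => rw [pow_succ]; omega
      have := h3 _ hh
      omega
    have hk3 : k ≤ 3 := le_trans (Nat.le_mul_of_pos_left k hg0) hm
    have hg3 : g ≤ 3 := le_trans (Nat.le_mul_of_pos_right g hk) hm
    clear_value g Q
    subst hQ hj
    interval_cases g <;> interval_cases k <;> norm_num at * <;>
      first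
        | exact ⟨1, by omega⟩
        | exact ⟨4, by omega⟩
        | omega
        | (obtain rfl : R' = 5 := by omega
           omega)
        | (obtain rfl : R' = 7 := by omega
           omega)
  · exfalso
    have ht0 : 0 < t := Nat.pos_of_ne_zero fun e => by simp [e] at hb
    have htQ' : t ≤ Q - 1 := Nat.le_of_dvd (by omega) htQ
    obtain ⟨v, o, ho, hto⟩ := Nat.exists_eq_two_pow_mul_odd (n := t - 1) (by omega)
    have hvg : v < g := by
      by_contra hh
      push Not at hh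
      have h1 : Q ≤ 2 ^ v := Nat.pow_le_pow_right (by norm_num) hh
      have h2 : 2 ^ v ≤ t - 1 := hto ▸ Nat.le_mul_of_pos_right _ ho.pos
      omega
    obtain ⟨e, he⟩ : 2 ^ (v + 1) ∣ Q := pow_dvd_pow 2 hvg
    set o' := o + 2 * (e * R' * t) with ho'
    have hoo : Odd o' := by
      rw [ho', Nat.odd_add]
      exact iff_of_true ho (even_two_mul _)
    have hbo : R * t - 1 = 2 ^ v * o' := by
      rw [hR', ho', he, Nat.mul_add (2 ^ v), ← hto, pow_succ]
      have : (2 ^ v * 2 * e * R' + 1) * t = 2 ^ v * (2 * (e * R' * t)) + t := by ring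
      omega
    have hoR : R ≤ o' := by
      have h1 : 2 ^ v * R ≤ 2 ^ v * o' := by
        rw [← hbo]
        have h2 : 2 ^ v ≤ t - 1 := hto ▸ Nat.le_mul_of_pos_right _ ho.pos
        have h3 : 2 ^ v * R ≤ (t - 1) * R := Nat.mul_le_mul_right R h2
        have h4 : (t - 1) * R + R = R * t := by
          obtain ⟨t', rfl⟩ : ∃ t', t = t' + 1 := ⟨t - 1, by omega⟩
          rw [Nat.add_sub_cancel]; ring
        omega
      exact Nat.le_of_mul_le_mul_left h1 (Nat.two_pow_pos v)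
    have hle := hoR.trans (Nat.le_of_dvd hβ0 (hodd o' hoo ⟨2 ^ v, by rw [hbo, mul_comm]⟩))
    have h5 := (hRge (Nat.succ_pos k)).trans hle
    rw [hQ, ← pow_mul] at h5
    have h6 := two_mul_le_pow (g * (k + 1))
    have h7 : β ≤ 2 * (g * (k + 1)) := by rw [hj]; nlinarith
    omega

/-- The exponent of the invariant part. -/
theorem inv_arith {h i d : ℕ} (hi : i ∣ h) (hd : d ∣ 2 * h) (hdvd : 2 ^ h - 1 ∣ (2 ^ i - 1) * d) (hh : 0 < h) :
    i = h := by
  obtain ⟨j, hj⟩ := hi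
  rcases j with - | - | k
  · omega
  · omega
  exfalso
  have hi0 : 0 < i := Nat.pos_of_ne_zero fun e => by subst e; simp at hj; omega
  set Q := 2 ^ i with hQ
  have hQ2 : 2 ≤ Q := by
    have := Nat.pow_le_pow_right (show 0 < 2 by norm_num) (show 1 ≤ i from hi0)
    omega
  obtain ⟨R, hR⟩ : Q - 1 ∣ 2 ^ h - 1 := by
    have h1 := Nat.pow_sub_one_gcd_pow_sub_one 2 i h
    rw [Nat.gcd_eq_left (⟨_, hj⟩ : i ∣ h)] at h1
    exact h1 ▸ Nat.gcd_dvd_right _ _
  have hRQ : R * (Q - 1) + 1 = Q ^ (k + 1 + 1) := by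
    rw [mul_comm, ← hR, hQ, ← pow_mul, show i * (k + 1 + 1) = h by rw [hj]]
    have := Nat.one_le_two_pow (n := h)
    omega
  obtain ⟨R', hR', -, hge⟩ := repunit hQ2 hRQ
  have hRd : R ∣ d := by
    rw [hR] at hdvd
    exact (Nat.mul_dvd_mul_iff_left (show 0 < Q - 1 by omega)).1 hdvd
  have hodd : Odd R := by
    rw [hR', Nat.odd_add_one, Nat.not_odd_iff_even]
    exact (even_iff_two_dvd.2 (dvd_pow_self 2 hi0.ne')).mul_right _
  have hRh : R ≤ h := Nat.le_of_dvd hh
    ((Nat.coprime_two_right.2 hodd).dvd_of_dvd_mul_left (hRd.trans hd))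
  have h5 := (hge (Nat.succ_pos k)).trans hRh
  rw [hQ, ← pow_mul] at h5
  have h6 := two_mul_le_pow (i * (k + 1))
  have h7 : h ≤ 2 * (i * (k + 1)) := by rw [hj]; nlinarith
  omega

end CfsgLib.SECrit.Pencil
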