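import Cfsg.Agent.Lib.Invol.SECriterion.EqType.Pencil.Singer
import Mathlib.GroupTheory.Sylow
import Mathlib.GroupTheory.Index

/-!
# A linear group transitive on the pencils: normal subgroups and orders

`L` acts faithfully on an elementary group `E` of order `2 ^ β` and transitively on a set `X` of the
same order; the stabilizer of `x₀` normalises a cyclic group `C` fixing `x₀`, transitive on the
non-identity elements of `E` and on the other points.
-/

set_option autoImplicit false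
set_option linter.style.haveILetI false

namespace CfsgLib.SECrit.Pencil

open MulAction

/-- The setting. -/
structure Setting (L E X : Type*) [Group L] [Group E] [MulDistribMulAction L E] [MulAction L X]
    (C : Subgroup L) (x₀ : X) (β : ℕ) : Prop where
  singer : Singer L E C
  cyclic : IsCyclic C
  card_E : Nat.card E = 2 ^ β
  card_X : Nat.card X = 2 ^ β
  two_le : 2 ≤ β
  trans_X : ∀ a : X, ∃ g : L, g • x₀ = a
  fix : ∀ c ∈ C, c • x₀ = x₀
  norm : ∀ g : L, g • x₀ = x₀ → ∀ c ∈ C, g * c * g⁻¹ ∈ C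
  trans_off : ∀ a b : X, a ≠ x₀ → b ≠ x₀ → ∃ c ∈ C, c • a = b

namespace Setting

variable {L E X : Type*} [Group L] [Finite L] [Group E] [Finite E] [MulDistribMulAction L E] [MulAction L X]
  [Finite X] {C : Subgroup L} {x₀ : X} {β : ℕ} (h : Setting L E X C x₀ β)
include h

omit [Finite L] [Finite E] [Finite X] in
theorem one_lt_pow : 1 < 2 ^ β := Nat.one_lt_two_pow (by have := h.two_le; omega)

theorem exists_ne : ∃ e : E, e ≠ 1 := by
  by_contra hh
  push Not at hh
  haveI : Subsingleton E := ⟨fun a b => (hh a).trans (hh b).symm⟩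
  have := h.one_lt_pow
  rw [← h.card_E] at this
  exact absurd (Finite.one_lt_card_iff_nontrivial.1 this) (not_nontrivial E)

omit [Finite L] [Finite X] in
theorem card_ne_one : Nat.card {f : E // f ≠ 1} = 2 ^ β - 1 := by
  classical
  have h1 := Nat.card_congr (Equiv.optionSubtypeNe (1 : E))
  rw [Finite.card_option, h.card_E] at h1
  omega

theorem card_C : Nat.card C = 2 ^ β - 1 := by
  obtain ⟨e, he⟩ := h.exists_ne
  rw [h.singer.card_eq he, h.card_ne_one]

theorem eq_one_of_fix_point {c : L} (hc : c ∈ C) {a : X} (ha : a ≠ x₀) (hca : c • a = a) : c = 1 := by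
  classical
  let f : C → {b : X // b ≠ x₀} := fun c => ⟨(c : L) • a, fun e1 => ha (by
    rw [← inv_smul_smul (c : L) a, e1, h.fix _ (inv_mem c.2)])⟩
  have hsurj : Function.Surjective f := fun ⟨b, hb⟩ => by
    obtain ⟨c, hc, hcb⟩ := h.trans_off a b ha hb
    exact ⟨⟨c, hc⟩, Subtype.ext hcb⟩
  have hcard : Nat.card C = Nat.card {b : X // b ≠ x₀} := by
    have h1 := Nat.card_congr (Equiv.optionSubtypeNe x₀)
    rw [Finite.card_option, h.card_X] at h1
    rw [h.card_C]; omega
  exact congrArg Subtype.val (((Nat.bijective_iff_surjective_and_card f).2 ⟨hsurj, hcard⟩).1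
    (a₁ := ⟨c, hc⟩) (a₂ := 1) (Subtype.ext (hca.trans (one_smul L a).symm)))

theorem exists_point_ne : ∃ a : X, a ≠ x₀ := by
  by_contra hh
  push Not at hh
  haveI : Subsingleton X := ⟨fun a b => (hh a).trans (hh b).symm⟩
  have := h.one_lt_pow
  rw [← h.card_X] at this
  exact absurd (Finite.one_lt_card_iff_nontrivial.1 this) (not_nontrivial X)

omit [Finite L] [Finite E] [Finite X] h in
theorem smul_trivial_of_normal {e : E} (N : Subgroup L) [hN : N.Normal] (hfix : ∀ g ∈ N, g • e = e) {n : L}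
    (hn : n ∈ N) (c : L) : n • (c • e) = c • e := by
  have h1 := hfix _ (hN.conj_mem n hn c⁻¹)
  rw [inv_inv, mul_smul, mul_smul, inv_smul_eq_iff] at h1
  exact h1

/-- A normal subgroup fixing a vector is trivial. -/
theorem eq_bot_of_fix_vector (N : Subgroup L) [N.Normal] {e : E} (he : e ≠ 1) (hfix : ∀ g ∈ N, g • e = e) :
    N = ⊥ := by
  refine eq_bot_iff.2 fun n hn => Subgroup.mem_bot.2 (h.singer.faith n fun f => ?_)
  by_cases hf : f = 1
  · rw [hf, smul_one]
  obtain ⟨c, -, rfl⟩ := h.singer.trans e f he hf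
  exact smul_trivial_of_normal N hfix hn c

/-- **A non-trivial normal subgroup is transitive on the points.** -/
theorem normal_trans (N : Subgroup L) [hN : N.Normal] (hne : N ≠ ⊥) (a : X) : ∃ g ∈ N, g • x₀ = a := by
  classical
  by_contra hno
  have hax : a ≠ x₀ := fun e1 => hno ⟨1, one_mem N, by rw [one_smul, e1]⟩
  have hfix : ∀ g ∈ N, g • x₀ = x₀ := by
    intro g hg
    by_contra hgx
    obtain ⟨c, hc, hca⟩ := h.trans_off (g • x₀) a hgx hax
    exact hno ⟨c * g * c⁻¹, hN.conj_mem g hg c, by rw [mul_smul, mul_smul, h.fix _ (inv_mem hc), hca]⟩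
  have hall : ∀ g ∈ N, ∀ b : X, g • b = b := by
    intro g hg b
    obtain ⟨k, rfl⟩ := h.trans_X b
    have h1 := hfix _ (hN.conj_mem g hg k⁻¹)
    rw [inv_inv, mul_smul, mul_smul, inv_smul_eq_iff] at h1
    exact h1
  have hC : ∀ g ∈ N, g ∈ C → g = 1 := fun g hg hgC => h.eq_one_of_fix_point hgC hax (hall g hg a)
  refine hne (eq_bot_iff.2 fun n hn => Subgroup.mem_bot.2 ?_)
  have hcomm : ∀ c ∈ C, n * c = c * n := by
    intro c hc
    have h1 : n * c * n⁻¹ * c⁻¹ = 1 := hC _ (by
      rw [show n * c * n⁻¹ * c⁻¹ = n * (c * n⁻¹ * c⁻¹) by group]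
      exact mul_mem hn (hN.conj_mem _ (inv_mem hn) c))
      (mul_mem (h.norm n (hfix n hn) c hc) (inv_mem hc))
    rw [mul_inv_eq_one, mul_inv_eq_iff_eq_mul] at h1
    exact h1
  obtain ⟨e, he⟩ := h.exists_ne
  obtain ⟨c, hc, hce⟩ := h.singer.trans e (n • e) he (h.singer.smul_ne_one he)
  have hnc : n = c := by
    refine (inv_mul_eq_one.1 (h.singer.faith _ fun f => ?_)).symm
    rw [mul_smul, inv_smul_eq_iff]
    by_cases hf : f = 1
    · rw [hf, smul_one, smul_one]
    obtain ⟨b, hb, rfl⟩ := h.singer.trans e f he hf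
    rw [smul_smul, hcomm b hb, mul_smul, ← hce, smul_smul, smul_smul, h.singer.comm b hb c hc]
  exact hC n hn (hnc ▸ hc)

theorem eq_one_of_fix_all {g : L} (hg : ∀ a : X, g • a = a) : g = 1 := by
  let N : Subgroup L := (MulAction.toPermHom L X).ker
  by_contra hg1
  have hne : N ≠ ⊥ := fun e1 => hg1 (Subgroup.mem_bot.1
    (e1 ▸ (MonoidHom.mem_ker.2 (Equiv.ext hg) : g ∈ N)))
  obtain ⟨a, ha⟩ := h.exists_point_ne
  obtain ⟨n, hn, hna⟩ := h.normal_trans N hne a
  exact ha (hna.symm.trans (Equiv.congr_fun (MonoidHom.mem_ker.1 hn) x₀))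

/-- A normal subgroup free on the points is trivial. -/
theorem eq_bot_of_free (N : Subgroup L) [N.Normal] (hfree : ∀ g ∈ N, g • x₀ = x₀ → g = 1) : N = ⊥ := by
  classical
  by_contra hne
  have hcard : Nat.card N = 2 ^ β := by
    rw [← h.card_X]
    refine Nat.card_eq_of_bijective (fun g : N => (g : L) • x₀) ⟨fun g k hgk => ?_, fun a => ?_⟩
    · refine Subtype.ext (inv_mul_eq_one.1 (hfree _ (mul_mem (inv_mem k.2) g.2) ?_)).symm
      rw [mul_smul]
      exact inv_smul_eq_iff.2 hgk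
    · obtain ⟨g, hg, hga⟩ := h.normal_trans N hne a
      exact ⟨⟨g, hg⟩, hga⟩
  haveI : Fact (Nat.Prime 2) := ⟨Nat.prime_two⟩
  have hP : IsPGroup 2 N := IsPGroup.of_card hcard
  obtain ⟨e, he, hfix⟩ : ∃ e : E, e ≠ 1 ∧ ∀ g ∈ N, g • e = e := by
    obtain ⟨e, he, hne'⟩ := hP.exists_fixed_point_of_prime_dvd_card_of_fixed_point E
      (by rw [h.card_E]; exact dvd_pow_self 2 (by have := h.two_le; omega))
      (a := 1) (fun g => smul_one (g : L))
    exact ⟨e, Ne.symm hne', fun g hg => he ⟨g, hg⟩⟩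
  exact hne (h.eq_bot_of_fix_vector N he hfix)

/-- A normal commutative subgroup is trivial. -/
theorem eq_bot_of_comm (N : Subgroup L) [N.Normal] (hN : ∀ a ∈ N, ∀ b ∈ N, a * b = b * a) : N = ⊥ := by
  refine h.eq_bot_of_free N fun g hg hgx => h.eq_one_of_fix_all fun a => ?_
  by_cases hne : N = ⊥
  · rw [hne, Subgroup.mem_bot] at hg
    rw [hg, one_smul]
  obtain ⟨k, hk, rfl⟩ := h.normal_trans N hne a
  rw [smul_smul, hN g hg k hk, mul_smul, hgx]

/-- **Orders.** -/
theorem exists_order {e : E} (he : e ≠ 1) : ∃ d : ℕ, d ∣ β ∧ 0 < d ∧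
    Nat.card (stabilizer L x₀) = Nat.card C * d ∧ Nat.card (stabilizer L e) = 2 ^ β * d := by
  classical
  set D := stabilizer L x₀ ⊓ stabilizer L e with hD
  have h3 : Nat.card (stabilizer L x₀) = Nat.card C * Nat.card D := by
    rw [← Nat.card_prod]
    refine (Nat.card_eq_of_bijective (fun p : C × D => (⟨(p.1 : L) * p.2, mem_stabilizer_iff.2 (by
      rw [mul_smul, mem_stabilizer_iff.1 p.2.2.1, h.fix _ p.1.2])⟩ : stabilizer L x₀)) ⟨?_, ?_⟩).symm
    · rintro ⟨⟨c, hc⟩, ⟨g, hg⟩⟩ ⟨⟨c', hc'⟩, ⟨g', hg'⟩⟩ hh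
      have h1 : c * g = c' * g' := congrArg Subtype.val hh
      obtain rfl : c = c' := h.singer.eq_of_smul_eq hc hc' he (by
        calc c • e = (c * g) • e := by rw [mul_smul, mem_stabilizer_iff.1 hg.2]
          _ = c' • e := by rw [h1, mul_smul, mem_stabilizer_iff.1 hg'.2])
      obtain rfl : g = g' := mul_left_cancel h1
      rfl
    · rintro ⟨g, hg⟩
      obtain ⟨c, hc, hce⟩ := h.singer.trans e (g • e) he (h.singer.smul_ne_one he)
      refine ⟨(⟨c, hc⟩, ⟨c⁻¹ * g, mem_stabilizer_iff.2 ?_, mem_stabilizer_iff.2 ?_⟩),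
        Subtype.ext (mul_inv_cancel_left c g)⟩
      · rw [mul_smul, mem_stabilizer_iff.1 hg, h.fix _ (inv_mem hc)]
      · rw [mul_smul, ← hce, inv_smul_smul]
  refine ⟨Nat.card D, (h.singer.fix_normalizer h.card_E D he (fun g hg => hg.2)
    fun g hg c hc => h.norm g hg.1 c hc).1, Nat.card_pos, h3, ?_⟩
  have h1 : Nat.card L = 2 ^ β * Nat.card (stabilizer L x₀) := by
    rw [← h.card_X, ← Nat.card_prod]
    haveI : IsPretransitive L X := ⟨fun a b => by
      obtain ⟨g, rfl⟩ := h.trans_X a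
      obtain ⟨k, rfl⟩ := h.trans_X b
      exact ⟨k * g⁻¹, by rw [mul_smul, inv_smul_smul]⟩⟩
    rw [Nat.card_prod, ← index_stabilizer_of_transitive L x₀, Subgroup.index_mul_card]
  have h2 : Nat.card L = (2 ^ β - 1) * Nat.card (stabilizer L e) := by
    rw [← h.card_ne_one, ← Subgroup.index_mul_card (stabilizer L e)]
    congr 1
    rw [MulAction.index_stabilizer]
    have : orbit L e = {f : E | f ≠ 1} := by
      ext f
      refine ⟨?_, fun hf => ?_⟩
      · rintro ⟨g, rfl⟩; exact h.singer.smul_ne_one he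
      · obtain ⟨c, -, hc⟩ := h.singer.trans e f he hf; exact ⟨c, hc⟩
    rw [this]
    rfl
  rw [h.card_C] at h3
  rw [h2, h3, ← mul_assoc, mul_comm (2 ^ β), mul_assoc] at h1
  have := h.one_lt_pow
  exact Nat.eq_of_mul_eq_mul_left (show 0 < 2 ^ β - 1 by omega) h1

end Setting

end CfsgLib.SECrit.Pencil
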